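import Mathlib
import Groth.Agent.QuotRepLib.Rel
import Groth.Agent.QuotRepLib.KernelPair
import Groth.Agent.AlgSpLib.FpqcMore

/-!
# Finite open families in the fibres of a quotient map

For an equivalence relation with quotient map `π : U ⟶ Q` and `ξ : V ⟶ Q`, a family is an open part `W` of
`U ×_Q V` which is finite over `V`. The locus where two points of `V` over the same point of `Q` have the same
family is clopen.
-/

set_option autoImplicit false
set_option backward.isDefEq.respectTransparency false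
set_option maxHeartbeats 800000

universe u

open CategoryTheory CategoryTheory.Limits MonoidalCategory CartesianMonoidalCategory AlgebraicGeometry Opposite
open AlgSp AlgSpLib Groth.Agent.QuotRep

noncomputable section

namespace Groth.Agent.Boot

variable {S : Scheme.{u}} {U : Over S} {F : Sp S} (π : (yon S).obj U ⟶ F)

/-- A finite open family in the fibres of the quotient map. -/
structure Fam where
  /-- the parameters -/
  V : Over S
  /-- the fibre product with `U` -/
  Z : Over S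
  /-- the family -/
  W : Over S
  /-- the map to the quotient -/
  xi : (yon S).obj V ⟶ F
  /-- the point of `U` -/
  zt : Z ⟶ U
  /-- the parameter -/
  zp : Z ⟶ V
  sq : IsPullback ((yon S).map zt) ((yon S).map zp) π xi
  /-- the inclusion of the family -/
  j : W ⟶ Z
  open_j : IsOpenImmersion j.left
  flat_zp : Flat zp.left
  lfp_zp : LocallyOfFinitePresentation zp.left
  lqf_zp : LocallyQuasiFinite zp.left
  sep_zp : IsSeparated zp.left
  finite_W : IsFinite (j.left ≫ zp.left)

variable {π} (D : Fam π)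

/-- The marking of a point of the family. -/
def Fam.m : D.W ⟶ U := D.j ≫ D.zt

/-- The parameter of a point of the family. -/
def Fam.p : D.W ⟶ D.V := D.j ≫ D.zp

/-- The pair `(z, a)` lies in the family. -/
def Fam.InW {T : Over S} (z : T ⟶ U) (a : T ⟶ D.V) : Prop := ∃ l : T ⟶ D.W, l ≫ D.m = z ∧ l ≫ D.p = a

/-- Two parameters have the same family. -/
def Fam.Same {T : Over S} (a b : T ⟶ D.V) : Prop :=
  (yon S).map a ≫ D.xi = (yon S).map b ≫ D.xi ∧
    ∀ (T' : Over S) (c : T' ⟶ T) (z : T' ⟶ U), D.InW z (c ≫ a) ↔ D.InW z (c ≫ b)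

theorem Fam.same_refl {T : Over S} (a : T ⟶ D.V) : D.Same a a := ⟨rfl, fun _ _ _ => Iff.rfl⟩

theorem Fam.same_symm {T : Over S} {a b : T ⟶ D.V} (h : D.Same a b) : D.Same b a :=
  ⟨h.1.symm, fun T' c z => (h.2 T' c z).symm⟩

theorem Fam.same_trans {T : Over S} {a b c : T ⟶ D.V} (h : D.Same a b) (h' : D.Same b c) : D.Same a c :=
  ⟨h.1.trans h'.1, fun T' e z => (h.2 T' e z).trans (h'.2 T' e z)⟩

theorem Fam.same_comp {T T₁ : Over S} (d : T₁ ⟶ T) {a b : T ⟶ D.V} (h : D.Same a b) : D.Same (d ≫ a) (d ≫ b) :=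
  ⟨by rw [Functor.map_comp, Category.assoc, h.1, Functor.map_comp, Category.assoc],
    fun T' c z => by rw [← Category.assoc, ← Category.assoc]; exact h.2 T' (c ≫ d) z⟩

instance : IsOpenImmersion D.j.left := D.open_j

instance : Flat D.zp.left := D.flat_zp

instance : LocallyOfFinitePresentation D.zp.left := D.lfp_zp

instance : LocallyQuasiFinite D.zp.left := D.lqf_zp

instance : IsSeparated D.zp.left := D.sep_zp

instance : IsFinite D.p.left := D.finite_W

instance : Mono D.j := Over.mono_of_mono_left D.j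

instance : Flat D.p.left := inferInstanceAs (Flat (D.j.left ≫ D.zp.left))

instance : LocallyOfFinitePresentation D.p.left :=
  inferInstanceAs (LocallyOfFinitePresentation (D.j.left ≫ D.zp.left))

theorem Fam.hom_ext {T : Over S} {l l' : T ⟶ D.Z} (h₁ : l ≫ D.zt = l' ≫ D.zt) (h₂ : l ≫ D.zp = l' ≫ D.zp) :
    l = l' :=
  (yon S).map_injective (D.sq.hom_ext (by rw [← Functor.map_comp, ← Functor.map_comp, h₁])
    (by rw [← Functor.map_comp, ← Functor.map_comp, h₂]))

theorem Fam.hom_ext_W {T : Over S} {l l' : T ⟶ D.W} (h₁ : l ≫ D.m = l' ≫ D.m) (h₂ : l ≫ D.p = l' ≫ D.p) :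
    l = l' :=
  (cancel_mono D.j).mp (D.hom_ext (by rw [Category.assoc, Category.assoc]; exact h₁)
    (by rw [Category.assoc, Category.assoc]; exact h₂))

/-- Membership in the family is a condition on points. -/
theorem Fam.inW_iff {T : Over S} (l : T ⟶ D.Z) :
    D.InW (l ≫ D.zt) (l ≫ D.zp) ↔ Set.range l.left.base ⊆ Set.range D.j.left.base := by
  constructor
  · rintro ⟨k, h1, h2⟩
    have : k ≫ D.j = l := D.hom_ext (by rw [Category.assoc]; exact h1) (by rw [Category.assoc]; exact h2)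
    rintro _ ⟨x, rfl⟩
    exact ⟨k.left.base x, congrArg (fun m => m.left.base x) this⟩
  · intro h
    let k : T ⟶ D.W := Over.homMk (IsOpenImmersion.lift D.j.left l.left h) (by
      rw [← Over.w D.j, IsOpenImmersion.lift_fac_assoc]; exact Over.w l)
    have hk : k ≫ D.j = l := Over.OverMorphism.ext (IsOpenImmersion.lift_fac _ _ _)
    exact ⟨k, by rw [Fam.m, reassoc_of% hk], by rw [Fam.p, reassoc_of% hk]⟩

/-- The locus where two parameters have the same family is clopen. -/
theorem Fam.exists_same_locus {T₀ : Over S} (a b : T₀ ⟶ D.V)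
    (hab : (yon S).map a ≫ D.xi = (yon S).map b ≫ D.xi) :
    ∃ E : T₀.left.Opens, IsClosed (E : Set T₀.left) ∧
      ∀ (T : Over S) (c : T ⟶ T₀), Set.range c.left.base ⊆ E ↔ D.Same (c ≫ a) (c ≫ b) := by
  let P : Over S := Over.mk (pullback.snd D.zp.left a.left ≫ T₀.hom)
  let pP : P ⟶ T₀ := Over.homMk (pullback.snd D.zp.left a.left) rfl
  let la : P ⟶ D.Z := Over.homMk (pullback.fst D.zp.left a.left) (by
    show pullback.fst _ _ ≫ D.Z.hom = pullback.snd _ _ ≫ T₀.hom
    rw [← Over.w D.zp, ← Over.w a, pullback.condition_assoc])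
  have sqa : IsPullback la pP D.zp a := isPullback_over (IsPullback.of_hasPullback D.zp.left a.left)
  have sqPa := (sqa.map (yon S)).paste_horiz D.sq
  have e : (yon S).map (la ≫ D.zt) ≫ π = (yon S).map (pP ≫ b) ≫ D.xi := by
    rw [Functor.map_comp, sqPa.w, Functor.map_comp, Category.assoc, hab]
  obtain ⟨lb, hlb⟩ := (yon S).map_surjective (D.sq.lift _ _ e)
  have hlb1 : lb ≫ D.zt = la ≫ D.zt := (yon S).map_injective (by rw [Functor.map_comp, hlb, IsPullback.lift_fst])
  have hlb2 : lb ≫ D.zp = pP ≫ b := (yon S).map_injective (by rw [Functor.map_comp, hlb, IsPullback.lift_snd])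
  have sqb : IsPullback lb pP D.zp b := by
    refine IsPullback.of_map (yon S) hlb2 (IsPullback.of_right (h₁₂ := (yon S).map D.zt) (v₁₃ := π)
      (h₂₂ := D.xi) ?_ (by rw [← Functor.map_comp, ← Functor.map_comp, hlb2]) D.sq)
    rw [← Functor.map_comp, hlb1, Functor.map_comp, ← hab]
    exact sqPa
  let A : P.left.Opens := la.left ⁻¹ᵁ D.j.left.opensRange
  let B : P.left.Opens := lb.left ⁻¹ᵁ D.j.left.opensRange
  haveI : IsSeparated pP.left := inferInstanceAs (IsSeparated (pullback.snd D.zp.left a.left))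
  haveI : Flat pP.left := inferInstanceAs (Flat (pullback.snd D.zp.left a.left))
  haveI : LocallyOfFinitePresentation pP.left :=
    inferInstanceAs (LocallyOfFinitePresentation (pullback.snd D.zp.left a.left))
  have hfin : ∀ (l : P ⟶ D.Z) (d : T₀ ⟶ D.V), IsPullback l pP D.zp d →
      IsFinite ((l.left ⁻¹ᵁ D.j.left.opensRange).ι ≫ pP.left) := by
    intro l d sq
    have sq1 := (isPullback_morphismRestrict l.left D.j.left.opensRange).paste_vert
      (sq.map (Over.forget S))
    refine MorphismProperty.of_isPullback (P := @IsFinite) sq1 ?_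
    rw [← MorphismProperty.cancel_left_of_respectsIso @IsFinite D.j.left.isoOpensRange.hom,
      Scheme.Hom.isoOpensRange_hom_ι_assoc]
    exact D.finite_W
  haveI hA : IsFinite (A.ι ≫ pP.left) := hfin la a sqa
  haveI hB : IsFinite (B.ι ≫ pP.left) := hfin lb b sqb
  have hcl : ∀ O : P.left.Opens, IsFinite (O.ι ≫ pP.left) → IsClosed (O : Set P.left) := by
    intro O hO
    haveI := hO
    haveI : IsFinite O.ι := .of_comp _ pP.left
    have := O.ι.isClosedMap.isClosed_range
    rwa [Scheme.Opens.range_ι] at this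
  let C : Set T₀.left := pP.left.base '' ((A : Set P.left) \ B ∪ ((B : Set P.left) \ A))
  have hCo : IsOpen C := pP.left.isOpenMap _
    ((A.2.sdiff (hcl B hB)).union (B.2.sdiff (hcl A hA)))
  have himg : ∀ O : P.left.Opens, IsFinite (O.ι ≫ pP.left) → ∀ K : Set P.left, IsClosed K → K ⊆ O →
      IsClosed (pP.left.base '' K) := by
    intro O hO K hK hKO
    haveI := hO
    have h := (O.ι ≫ pP.left).isClosedMap _ (hK.preimage O.ι.continuous)
    rwa [Scheme.Hom.comp_base, TopCat.coe_comp, Set.image_comp, Set.image_preimage_eq_of_subset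
      (by rw [Scheme.Opens.range_ι]; exact hKO)] at h
  have hCc : IsClosed C := by
    show IsClosed (pP.left.base '' _)
    rw [Set.image_union]
    exact (himg A hA _ ((hcl A hA).sdiff B.2) Set.sdiff_subset).union
      (himg B hB _ ((hcl B hB).sdiff A.2) Set.sdiff_subset)
  refine ⟨⟨Cᶜ, hCc.isOpen_compl⟩, hCo.isClosed_compl, fun T c => ⟨fun hc => ⟨?_, ?_⟩, fun hS x hx => ?_⟩⟩
  · rw [Functor.map_comp, Category.assoc, hab, Functor.map_comp, Category.assoc]
  · -- the two families agree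
    have key : ∀ (l₁ l₂ : P ⟶ D.Z) (a₁ a₂ : T₀ ⟶ D.V), IsPullback l₁ pP D.zp a₁ → IsPullback l₂ pP D.zp a₂ →
        l₁ ≫ D.zt = l₂ ≫ D.zt →
        (∀ q : P.left, pP.left.base q ∉ C →
          l₁.left.base q ∈ Set.range D.j.left.base → l₂.left.base q ∈ Set.range D.j.left.base) →
        ∀ (T' : Over S) (e : T' ⟶ T) (z : T' ⟶ U), D.InW z (e ≫ c ≫ a₁) → D.InW z (e ≫ c ≫ a₂) := by
      intro l₁ l₂ a₁ a₂ s₁ s₂ h12 hpt T' e z ⟨k, h1, h2⟩
      let n := s₁.lift (k ≫ D.j) (e ≫ c) (by
        rw [Category.assoc]; exact h2.trans (Category.assoc _ _ _).symm)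
      have hn1 : n ≫ l₁ = k ≫ D.j := s₁.lift_fst _ _ _
      have hn2 : n ≫ pP = e ≫ c := s₁.lift_snd _ _ _
      have e1 : (n ≫ l₂) ≫ D.zt = z := by
        rw [Category.assoc, ← h12, reassoc_of% hn1]; exact h1
      have e2 : (n ≫ l₂) ≫ D.zp = e ≫ c ≫ a₂ := by rw [Category.assoc, s₂.w, reassoc_of% hn2]
      rw [← e1, ← e2, D.inW_iff]
      rintro _ ⟨x, rfl⟩
      refine hpt (n.left.base x) ?_ ⟨k.left.base x, (congrArg (fun m => m.left.base x) hn1).symm⟩
      rw [show pP.left.base (n.left.base x) = c.left.base (e.left.base x) from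
        congrArg (fun m => m.left.base x) hn2]
      exact hc ⟨_, rfl⟩
    intro T' e z
    exact ⟨key la lb a b sqa sqb hlb1.symm (fun q hq hqA => by_contra fun hqB => hq ⟨q, Or.inl ⟨hqA, hqB⟩, rfl⟩)
        T' e z,
      key lb la b a sqb sqa hlb1 (fun q hq hqB => by_contra fun hqA => hq ⟨q, Or.inr ⟨hqB, hqA⟩, rfl⟩) T' e z⟩
  · -- points outside the locus separate the families
    have key : ∀ (l₁ l₂ : P ⟶ D.Z) (a₁ a₂ : T₀ ⟶ D.V), IsPullback l₁ pP D.zp a₁ → IsPullback l₂ pP D.zp a₂ →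
        l₁ ≫ D.zt = l₂ ≫ D.zt →
        (∀ (T' : Over S) (e : T' ⟶ T) (z : T' ⟶ U), D.InW z (e ≫ c ≫ a₁) → D.InW z (e ≫ c ≫ a₂)) →
        ∀ q : P.left, pP.left.base q ∈ Set.range c.left.base → l₁.left.base q ∈ Set.range D.j.left.base →
          l₂.left.base q ∈ Set.range D.j.left.base := by
      rintro l₁ l₂ a₁ a₂ s₁ s₂ h12 hSame q ⟨y, hy⟩ hq
      let O : P.left.Opens := l₁.left ⁻¹ᵁ D.j.left.opensRange
      let Oo : Over S := Over.mk (O.ι ≫ P.hom)
      let o : Oo ⟶ P := Over.homMk O.ι rfl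
      let T' : Over S := pullback (o ≫ pP) c
      let n : T' ⟶ P := pullback.fst (o ≫ pP) c ≫ o
      let e : T' ⟶ T := pullback.snd (o ≫ pP) c
      have hn : n ≫ pP = e ≫ c := by
        show (pullback.fst (o ≫ pP) c ≫ o) ≫ pP = _
        rw [Category.assoc]; exact pullback.condition
      have h1 : D.InW ((n ≫ l₁) ≫ D.zt) ((n ≫ l₁) ≫ D.zp) := (D.inW_iff _).mpr (by
        rintro _ ⟨x, rfl⟩
        exact ((pullback.fst (o ≫ pP) c).left.base x).2)
      have e2 : ∀ (l : P ⟶ D.Z) (d : T₀ ⟶ D.V), l ≫ D.zp = pP ≫ d → (n ≫ l) ≫ D.zp = e ≫ c ≫ d :=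
        fun l d h => by rw [Category.assoc, h, reassoc_of% hn]
      rw [e2 l₁ a₁ s₁.w] at h1
      have h2 := hSame T' e _ h1
      rw [← e2 l₂ a₂ s₂.w, show (n ≫ l₁) ≫ D.zt = (n ≫ l₂) ≫ D.zt from
        (Category.assoc n l₁ _).trans ((congrArg (n ≫ ·) h12).trans (Category.assoc n l₂ _).symm),
        D.inW_iff] at h2
      obtain ⟨w, hw1, -⟩ := Scheme.exists_preimage_of_isPullback
        ((IsPullback.of_hasPullback (o ≫ pP) c).map (Over.forget S)) (⟨q, hq⟩ : O.toScheme) y hy.symm
      have : n.left.base w = q := congrArg O.ι.base hw1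
      rw [← this]
      exact h2 ⟨w, rfl⟩
    obtain ⟨y, rfl⟩ := hx
    rintro ⟨q, hq | hq, hqy⟩
    · exact hq.2 (key la lb a b sqa sqb hlb1.symm (fun T' e z h => (hS.2 T' e z).mp h) q ⟨y, hqy.symm⟩ hq.1)
    · exact hq.2 (key lb la b a sqb sqa hlb1 (fun T' e z h => (hS.2 T' e z).mpr h) q ⟨y, hqy.symm⟩ hq.1)

end Groth.Agent.Boot
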