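import Mathlib

/-!
# Splitting off the point of a section after an etale localisation

For a separated quasi-finite morphism with a section, an etale neighbourhood of a point of the base over which
the value of the section is the only point of a finite open part.
-/

set_option autoImplicit false
set_option backward.isDefEq.respectTransparency false

universe u

open CategoryTheory CategoryTheory.Limits AlgebraicGeometry
open scoped TensorProduct

noncomputable section

namespace Groth.Agent.Boot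

variable {X U : Scheme.{u}} (f : X ⟶ U) (e : U ⟶ X) (he : e ≫ f = 𝟙 U)

/-- The base change of a section. -/
def secBC {V : Scheme.{u}} (g : V ⟶ U) : V ⟶ pullback f g :=
  pullback.lift (g ≫ e) (𝟙 V) (by rw [Category.assoc, he, Category.comp_id, Category.id_comp])

@[reassoc (attr := simp)]
theorem secBC_fst {V : Scheme.{u}} (g : V ⟶ U) : secBC f e he g ≫ pullback.fst f g = g ≫ e :=
  pullback.lift_fst _ _ _

@[reassoc (attr := simp)]
theorem secBC_snd {V : Scheme.{u}} (g : V ⟶ U) : secBC f e he g ≫ pullback.snd f g = 𝟙 V :=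
  pullback.lift_snd _ _ _

theorem isPullback_secBC {V : Scheme.{u}} (g : V ⟶ U) :
    IsPullback (secBC f e he g) g (pullback.fst f g) e := by
  refine IsPullback.of_right (h₁₂ := pullback.snd f g) (v₁₃ := g) (h₂₂ := f) ?_ (secBC_fst f e he g)
    (IsPullback.of_hasPullback f g).flip
  rw [secBC_snd, he]
  exact IsPullback.of_horiz_isIso ⟨by simp⟩

/-- An etale neighbourhood splitting off the value of a section. -/
theorem exists_etale_family [LocallyOfFiniteType f] [LocallyQuasiFinite f] (u₀ : U) :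
    ∃ (V : Scheme.{u}) (g : V ⟶ U) (v : V) (W : (pullback f g).Opens), IsAffine V ∧ Etale g ∧ g v = u₀ ∧
      IsFinite (W.ι ≫ pullback.snd f g) ∧ secBC f e he g v ∈ W ∧
      ∀ w ∈ W, pullback.snd f g w = v → w = secBC f e he g v := by
  have hfx : f (e u₀) = u₀ := by rw [← Scheme.Hom.comp_apply, he]; rfl
  have hx : f.QuasiFiniteAt (e u₀) := f.quasiFiniteAt (e u₀)
  obtain ⟨_, ⟨U₁, hU, rfl⟩, hxU, -⟩ := U.isBasis_affineOpens.exists_subset_of_mem_open
    (Set.mem_univ (f (e u₀))) isOpen_univ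
  obtain ⟨_, ⟨X₁, hX, rfl⟩, hxX, hUX : X₁ ≤ f ⁻¹ᵁ U₁⟩ :=
    X.isBasis_affineOpens.exists_subset_of_mem_open hxU (f ⁻¹ᵁ U₁).2
  have : (f.appLE U₁ X₁ hUX).hom.FiniteType := f.finiteType_appLE hU hX hUX
  algebraize [(f.appLE U₁ X₁ hUX).hom]
  have : (hX.primeIdealOf ⟨e u₀, hxX⟩).asIdeal.LiesOver (hU.primeIdealOf ⟨f (e u₀), hxU⟩).asIdeal := by
    suffices hU.primeIdealOf ⟨f (e u₀), hxU⟩ = Spec.map (f.appLE U₁ X₁ hUX) (hX.primeIdealOf ⟨e u₀, hxX⟩) from
      ⟨congr(($this).1)⟩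
    apply hU.isoSpec.inv.homeomorph.injective
    apply Subtype.ext
    simp only [IsAffineOpen.primeIdealOf, Scheme.Hom.homeomorph_apply,
      ← Scheme.Hom.comp_apply, ← Scheme.Opens.ι_apply, IsAffineOpen.isoSpec_hom]
    simp
  have : Algebra.QuasiFiniteAt Γ(U, U₁) (hX.primeIdealOf ⟨e u₀, hxX⟩).asIdeal :=
    hx.quasiFiniteAt hX hU hUX hxX
  obtain ⟨R, _, _, _, P, _, _, i, _, P', _, hP'P, hP', heP', -, _, huniq⟩ :=
    Algebra.exists_etale_isIdempotentElem_forall_liesOver_eq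
    (hU.primeIdealOf ⟨f (e u₀), hxU⟩).asIdeal (hX.primeIdealOf ⟨e u₀, hxX⟩).asIdeal
  have : (algebraMap R (Localization.Away i)).Finite := RingHom.finite_algebraMap.mpr ‹_›
  let φ : Γ(U, U₁) ⟶ .of R := CommRingCat.ofHom <| algebraMap Γ(U, U₁) R
  have hφ : φ.hom.Etale := RingHom.etale_algebraMap.mpr ‹_›
  have : Etale (Spec.map φ) := HasRingHomProperty.Spec_iff.mpr hφ
  let g₀ : Spec (.of R) ⟶ U := Spec.map φ ≫ hU.fromSpec
  let e₁ : Spec (.of (R ⊗[Γ(U, U₁)] Γ(X, X₁))) ≅ pullback (Spec.map (f.appLE U₁ X₁ hUX)) (Spec.map φ) :=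
    (pullbackSpecIso _ _ _).symm ≪≫ pullbackSymmetry _ _
  have he₁ : e₁.hom ≫ pullback.fst _ _ =
      Spec.map (CommRingCat.ofHom Algebra.TensorProduct.includeRight.toRingHom) := by
    dsimp [e₁, RingHom.algebraMap_toAlgebra]
    rw [Category.assoc, pullbackSymmetry_hom_comp_fst]
    exact pullbackSpecIso_inv_snd ..
  have he₂ : e₁.hom ≫ pullback.snd _ _ =
      Spec.map (CommRingCat.ofHom (algebraMap R (R ⊗[Γ(U, U₁)] Γ(X, X₁)))) := by
    dsimp [e₁, RingHom.algebraMap_toAlgebra]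
    rw [Category.assoc, pullbackSymmetry_hom_comp_snd]
    exact pullbackSpecIso_inv_fst ..
  let m : Spec (.of (R ⊗[Γ(U, U₁)] Γ(X, X₁))) ⟶ pullback f g₀ :=
    e₁.hom ≫ pullback.map _ _ _ _ hX.fromSpec (𝟙 _) hU.fromSpec
      (IsAffineOpen.SpecMap_appLE_fromSpec ..) (by simp [g₀])
  have hm₁ : m ≫ pullback.fst f g₀ =
      Spec.map (CommRingCat.ofHom Algebra.TensorProduct.includeRight.toRingHom) ≫ hX.fromSpec := by
    simp [m, reassoc_of% he₁]
  have hm₂ : m ≫ pullback.snd f g₀ =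
      Spec.map (CommRingCat.ofHom (algebraMap R (R ⊗[Γ(U, U₁)] Γ(X, X₁)))) := by
    simp [m, he₂]
  let W₁ := m ''ᵁ PrimeSpectrum.basicOpen i
  have hfin : IsFinite (W₁.ι ≫ pullback.snd f _) := by
    let ι' : Spec (.of (Localization.Away i)) ⟶ pullback f g₀ :=
      Spec.map (CommRingCat.ofHom <| algebraMap _ _) ≫ m
    have : ι'.opensRange = W₁ := by
      simp only [Scheme.Hom.opensRange_comp, ι', W₁]
      congr 1
      exact TopologicalSpace.Opens.ext <| PrimeSpectrum.localization_away_comap_range _ _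
    rw [← this, ← MorphismProperty.cancel_left_of_respectsIso @IsFinite
      (Scheme.Hom.isoOpensRange _).hom]
    simp only [Scheme.Hom.isoOpensRange_hom_ι_assoc, ι', Category.assoc, hm₂, ← Spec.map_comp,
      IsFinite.SpecMap_iff]
    convert! (‹(algebraMap R (Localization.Away i)).Finite›) using 1
  let v : Spec (.of R) := ⟨P, ‹_›⟩
  let w : Spec (.of (R ⊗[Γ(U, U₁)] Γ(X, X₁))) := ⟨P', ‹_›⟩
  have hwv : pullback.snd f g₀ (m w) = v := by
    rw [← Scheme.Hom.comp_apply, hm₂]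
    exact PrimeSpectrum.ext (Ideal.over_def P' P).symm
  have hwx : pullback.fst f g₀ (m w) = e u₀ := by
    rw [← Scheme.Hom.comp_apply, hm₁, Scheme.Hom.comp_apply]
    convert! hX.fromSpec_primeIdealOf ⟨e u₀, hxX⟩
    exact PrimeSpectrum.ext hP'
  have hsec : secBC f e he g₀ v = m w := by
    obtain ⟨z, hz, -⟩ := Scheme.exists_preimage_of_isPullback (isPullback_secBC f e he g₀) (m w) u₀ hwx
    have hzv : z = v := by
      rw [← hwv, ← hz, ← Scheme.Hom.comp_apply, secBC_snd]; rfl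
    rw [← hzv, hz]
  refine ⟨Spec (.of R), g₀, v, W₁, inferInstance, inferInstance, ?_, hfin, ?_, ?_⟩
  · have : g₀ v = f (e u₀) := by
      rw [← hwv, ← hwx, ← Scheme.Hom.comp_apply (pullback.fst f g₀) f, pullback.condition, Scheme.Hom.comp_apply]
      rfl
    exact this.trans hfx
  · rw [hsec]; exact ⟨w, heP', rfl⟩
  · rintro _ ⟨w', hw', rfl⟩ hv
    replace hv : (m ≫ pullback.snd f g₀) w' = v := hv
    rw [hm₂] at hv
    have : w'.asIdeal = P' := huniq _ w'.isPrime ⟨(congrArg PrimeSpectrum.asIdeal hv).symm⟩ hw'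
    rw [hsec, show w' = w from PrimeSpectrum.ext this]
    rfl

end Groth.Agent.Boot
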