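import Mathlib
import Groth.Agent.BootLib.Family
import Groth.Agent.BootLib.Splitting

/-!
# Families splitting off the identity
-/

set_option autoImplicit false
set_option backward.isDefEq.respectTransparency false
set_option maxHeartbeats 800000

universe u

open CategoryTheory CategoryTheory.Limits MonoidalCategory CartesianMonoidalCategory AlgebraicGeometry Opposite
open AlgSp AlgSpLib Groth.Agent.QuotRep

noncomputable section

namespace Groth.Agent.Boot

variable {S : Scheme.{u}} {R U : Over S} {F : Sp S} {π : (yon S).obj U ⟶ F}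

/-- Over `v` the point `g` is the only point of the family. -/
def Fam.Splits (D : Fam π) (g : D.V ⟶ U) (v : D.V.left) : Prop :=
  ∃ sec : D.V ⟶ D.Z, sec ≫ D.zt = g ∧ sec ≫ D.zp = 𝟙 D.V ∧ sec.left.base v ∈ Set.range D.j.left.base ∧
    ∀ w : D.W.left, D.p.left.base w = v → D.j.left.base w = sec.left.base v

/-- The family and the marking determine the parameter. -/
def Fam.Inj (D : Fam π) (g : D.V ⟶ U) : Prop :=
  ∀ (T : Over S) (a b : T ⟶ D.V), a ≫ g = b ≫ g → D.Same a b → a = b

variable {s t : R ⟶ U} (sq : IsPullback ((yon S).map t) ((yon S).map s) π π)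

/-- The fibre product of `s` and a morphism. -/
def fibObj (s : R ⟶ U) {V : Over S} (g : V ⟶ U) : Over S := Over.mk (pullback.fst s.left g.left ≫ R.hom)

/-- The first projection of `fibObj`. -/
def fibR (s : R ⟶ U) {V : Over S} (g : V ⟶ U) : fibObj s g ⟶ R := Over.homMk (pullback.fst s.left g.left) rfl

/-- The second projection of `fibObj`. -/
def fibP (s : R ⟶ U) {V : Over S} (g : V ⟶ U) : fibObj s g ⟶ V :=
  Over.homMk (pullback.snd s.left g.left) (by
    show pullback.snd s.left g.left ≫ V.hom = pullback.fst s.left g.left ≫ R.hom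
    rw [← Over.w g, ← pullback.condition_assoc, Over.w s])

theorem isPullback_fib (s : R ⟶ U) {V : Over S} (g : V ⟶ U) : IsPullback (fibR s g) (fibP s g) s g :=
  isPullback_over (IsPullback.of_hasPullback s.left g.left)

/-- The family given by an open part of a fibre product. -/
def famOf [Flat s.left] [LocallyOfFinitePresentation s.left] [LocallyQuasiFinite s.left] [IsSeparated s.left]
    {V : Over S} (g : V ⟶ U) (W : (pullback s.left g.left).Opens)
    (hW : IsFinite (W.ι ≫ pullback.snd s.left g.left)) : Fam π where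
  V := V
  Z := fibObj s g
  W := Over.mk (W.ι ≫ (fibObj s g).hom)
  xi := (yon S).map g ≫ π
  zt := fibR s g ≫ t
  zp := fibP s g
  sq := by rw [Functor.map_comp]; exact ((isPullback_fib s g).map (yon S)).paste_horiz sq
  j := Over.homMk W.ι rfl
  open_j := inferInstanceAs (IsOpenImmersion W.ι)
  flat_zp := inferInstanceAs (Flat (pullback.snd s.left g.left))
  lfp_zp := inferInstanceAs (LocallyOfFinitePresentation (pullback.snd s.left g.left))
  lqf_zp := inferInstanceAs (LocallyQuasiFinite (pullback.snd s.left g.left))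
  sep_zp := inferInstanceAs (IsSeparated (pullback.snd s.left g.left))
  finite_W := hW

include sq in
theorem isSeparated_of_kernelPair [IsSeparated U.hom] : IsSeparated s.left := by
  haveI : Mono (pullback.lift t.left s.left ((Over.w t).trans (Over.w s).symm)) := by
    refine ⟨fun a b hab => (isRel_of_isEqvRel (isEqvRel_of_isPullback sq)).mono _ a b ?_ ?_⟩
    · simpa using congrArg (· ≫ pullback.snd U.hom U.hom) hab
    · simpa using congrArg (· ≫ pullback.fst U.hom U.hom) hab
  rw [← pullback.lift_snd t.left s.left ((Over.w t).trans (Over.w s).symm)]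
  infer_instance

theorem exists_initial [Flat s.left] [LocallyOfFinitePresentation s.left] [LocallyQuasiFinite s.left]
    [IsSeparated s.left] (u₀ : U.left) (e : U ⟶ R) (het : e ≫ t = 𝟙 U) (hes : e ≫ s = 𝟙 U) :
    ∃ (V : Over S) (g : V ⟶ U) (W : (pullback s.left g.left).Opens)
      (hW : IsFinite (W.ι ≫ pullback.snd s.left g.left)) (v : V.left), IsAffine V.left ∧ Etale g.left ∧
      g.left.base v = u₀ ∧ (famOf sq g W hW).Splits g v := by
  have he : e.left ≫ s.left = 𝟙 U.left := congrArg CommaMorphism.left hes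
  obtain ⟨V, g₀, v, W, hV, hg₀, hgv, hW, hvW, huniq⟩ := exists_etale_family s.left e.left he u₀
  let Vo : Over S := Over.mk (g₀ ≫ U.hom)
  let g : Vo ⟶ U := Over.homMk g₀ rfl
  refine ⟨Vo, g, W, hW, v, hV, hg₀, hgv, Over.homMk (secBC s.left e.left he g₀) ?_, ?_, ?_, ?_,
    fun w hw => huniq (W.ι.base w) (w : W.toScheme).2 hw⟩
  · show secBC s.left e.left he g₀ ≫ pullback.fst s.left g₀ ≫ R.hom = g₀ ≫ U.hom
    rw [secBC_fst_assoc, Over.w e]
  · apply Over.OverMorphism.ext
    show secBC s.left e.left he g₀ ≫ pullback.fst s.left g₀ ≫ t.left = g₀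
    rw [secBC_fst_assoc, ← Over.comp_left, het]
    simp
  · apply Over.OverMorphism.ext
    show secBC s.left e.left he g₀ ≫ pullback.snd s.left g₀ = 𝟙 V
    exact secBC_snd _ _ _ _
  · exact ⟨⟨_, hvW⟩, rfl⟩

end Groth.Agent.Boot
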