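import Mathlib
import Groth.Agent.BootLib.Initial
import Groth.Agent.MiscFlat6.FinCond

/-!
# The finite flat relation cut out by a universal splitting
-/

set_option autoImplicit false
set_option backward.isDefEq.respectTransparency false
set_option maxHeartbeats 1600000

universe u

open CategoryTheory CategoryTheory.Limits MonoidalCategory CartesianMonoidalCategory AlgebraicGeometry Opposite
open AlgSp AlgSpLib Groth.Agent.QuotRep

noncomputable section

namespace Groth.Agent.Boot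

variable {S : Scheme.{u}} {U : Over S} {F : Sp S} {π : (yon S).obj U ⟶ F}

/-- A finite flat relation with finite orbits in affine opens. -/
structure StableRel (D : Fam π) (v : D.V.left) where
  /-- the neighbourhood -/
  N : Over S
  /-- its inclusion -/
  k : N ⟶ D.V
  /-- the relation -/
  RN : Over S
  /-- source -/
  p : RN ⟶ N
  /-- target -/
  q : RN ⟶ N
  open_k : IsOpenImmersion k.left
  mem : v ∈ Set.range k.left.base
  eqv : IsEqvRel p q
  rel : ∀ (T : Over S) (a b : T ⟶ N), (∃ r : T ⟶ RN, r ≫ q = a ∧ r ≫ p = b) ↔ D.Same (a ≫ k) (b ≫ k)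
  finite_p : IsFinite p.left
  flat_p : Flat p.left
  lfp_p : LocallyOfFinitePresentation p.left
  affine : ∀ n : N.left, ∃ O : N.left.Opens, IsAffineOpen O ∧ ∀ r : RN.left, p.left r = n → q.left r ∈ O
  sec_mem : ∀ (T : Over S) (a : T ⟶ N), ∃ z, D.InW z (a ≫ k) ∧ (yon S).map z ≫ π = (yon S).map (a ≫ k) ≫ D.xi

theorem exists_stableRel (D : Fam π) (g : D.V ⟶ U) [Etale g.left] (hxi : D.xi = (yon S).map g ≫ π)
    (v : D.V.left) (hspl : D.Splits g v) (hinj : D.Inj g) : Nonempty (StableRel D v) := by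
  obtain ⟨sec, hsec1, hsec2, hsecv, huniq⟩ := hspl
  let WV : Over S := Over.mk (pullback.fst D.m.left g.left ≫ D.W.hom)
  let pw : WV ⟶ D.W := Over.homMk (pullback.fst D.m.left g.left) rfl
  let pv : WV ⟶ D.V := Over.homMk (pullback.snd D.m.left g.left) (by
    show pullback.snd D.m.left g.left ≫ D.V.hom = pullback.fst D.m.left g.left ≫ D.W.hom
    rw [← Over.w g, ← pullback.condition_assoc, Over.w D.m])
  have sqW : IsPullback pw pv D.m g := isPullback_over (IsPullback.of_hasPullback D.m.left g.left)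
  have hab : (yon S).map (pw ≫ D.p) ≫ D.xi = (yon S).map pv ≫ D.xi := by
    have e : (yon S).map D.p ≫ D.xi = (yon S).map D.m ≫ π := by
      rw [Fam.p, Fam.m, Functor.map_comp, Functor.map_comp, Category.assoc, Category.assoc, D.sq.w]
    calc (yon S).map (pw ≫ D.p) ≫ D.xi = (yon S).map (pw ≫ D.m) ≫ π := by
            rw [Functor.map_comp, Functor.map_comp, Category.assoc, Category.assoc, e]
      _ = (yon S).map (pv ≫ g) ≫ π := by rw [sqW.w]
      _ = (yon S).map pv ≫ D.xi := by rw [hxi, Functor.map_comp, Category.assoc]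
  obtain ⟨E, -, hEiff⟩ := D.exists_same_locus (pw ≫ D.p) pv hab
  let PO : Over S := Over.mk (E.ι ≫ WV.hom)
  let i : PO ⟶ WV := Over.homMk E.ι rfl
  haveI : IsOpenImmersion i.left := inferInstanceAs (IsOpenImmersion E.ι)
  let pW : PO ⟶ D.W := i ≫ pw
  let qV : PO ⟶ D.V := i ≫ pv
  have hqg : qV ≫ g = pW ≫ D.m := by rw [Category.assoc, Category.assoc, sqW.w]
  have hsame : D.Same (pW ≫ D.p) qV := by
    have := (hEiff PO i).mp (by rintro _ ⟨x, rfl⟩; exact (x : E.toScheme).2)
    rwa [← Category.assoc] at this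
  haveI : Etale pw.left := inferInstanceAs (Etale (pullback.fst D.m.left g.left))
  haveI : Etale pW.left := inferInstanceAs (Etale (i.left ≫ pw.left))
  have hmono : Mono pW := by
    refine ⟨fun {T} l l' h => ?_⟩
    have hg' : (l ≫ qV) ≫ g = (l' ≫ qV) ≫ g := by
      rw [Category.assoc l qV g, Category.assoc l' qV g, hqg, ← Category.assoc l pW, ← Category.assoc l' pW, h]
    have h2 : (l ≫ qV) = (l' ≫ qV) := hinj T _ _ hg' (by
      refine D.same_trans (D.same_symm (D.same_comp l hsame)) ?_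
      rw [← Category.assoc, h, Category.assoc]
      exact D.same_comp l' hsame)
    have hm : Mono i := Over.mono_of_mono_left i
    refine (cancel_mono i).mp (sqW.hom_ext ?_ ?_)
    · rw [Category.assoc, Category.assoc]; exact h
    · rw [Category.assoc, Category.assoc]; exact h2
  haveI : Mono pW.left := (Over.forget S).map_mono pW
  haveI : IsOpenImmersion pW.left := IsOpenImmersion.of_flat_of_mono pW.left
  have hchar : ∀ (T : Over S) (l : T ⟶ D.W) (b : T ⟶ D.V), b ≫ g = l ≫ D.m → D.Same (l ≫ D.p) b →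
      ∃ l' : T ⟶ PO, l' ≫ pW = l ∧ l' ≫ qV = b := by
    intro T l b h1 h2
    let c := sqW.lift l b h1.symm
    have hc1 : c ≫ pw = l := sqW.lift_fst _ _ _
    have hc2 : c ≫ pv = b := sqW.lift_snd _ _ _
    have hr : Set.range c.left ⊆ Set.range E.ι := by
      rw [Scheme.Opens.range_ι]
      refine (hEiff T c).mpr ?_
      rw [reassoc_of% hc1, hc2]
      exact h2
    let l' : T ⟶ PO := Over.homMk (IsOpenImmersion.lift E.ι c.left hr) (by
      show _ ≫ E.ι ≫ WV.hom = T.hom
      rw [IsOpenImmersion.lift_fac_assoc, Over.w c])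
    have hl' : l' ≫ i = c := Over.OverMorphism.ext (IsOpenImmersion.lift_fac _ _ _)
    exact ⟨l', by rw [show pW = i ≫ pw from rfl, reassoc_of% hl', hc1],
      by rw [show qV = i ≫ pv from rfl, reassoc_of% hl', hc2]⟩
  let Ω : D.V.left.Opens := sec.left ⁻¹ᵁ D.j.left.opensRange
  have hdiag : ∀ (T : Over S) (a : T ⟶ D.V), Set.range a.left.base ⊆ Ω → D.InW (a ≫ g) a := by
    intro T a ha
    have := (D.inW_iff (a ≫ sec)).mpr (by rintro _ ⟨x, rfl⟩; exact ha ⟨x, rfl⟩)
    rw [Category.assoc a sec, Category.assoc a sec, hsec1, hsec2, Category.comp_id] at this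
    exact this
  -- the point over `v`
  let Vo : Over S := Over.mk (Ω.ι ≫ D.V.hom)
  let o : Vo ⟶ D.V := Over.homMk Ω.ι rfl
  obtain ⟨l₀, hl₀m, hl₀p⟩ := hdiag Vo o (by rintro _ ⟨x, rfl⟩; exact (x : Ω.toScheme).2)
  obtain ⟨d, hd1, hd2⟩ := hchar Vo l₀ o hl₀m.symm (by rw [hl₀p]; exact D.same_refl o)
  let v' : Vo.left := (⟨v, hsecv⟩ : Ω.toScheme)
  have hl₀v : D.j.left.base (l₀.left.base v') = sec.left.base v := by
    have e : l₀ ≫ D.j = o ≫ sec := D.hom_ext
      (by rw [Category.assoc, Category.assoc, hsec1]; exact hl₀m)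
      (by rw [Category.assoc, Category.assoc, hsec2, Category.comp_id]; exact hl₀p)
    exact congrArg (fun m => m.left.base v') e
  obtain ⟨_, ⟨N₀, hN₀, rfl⟩, hvN₀, hN₀Ω⟩ := D.V.left.isBasis_affineOpens.exists_subset_of_mem_open
    (show v ∈ (Ω : Set D.V.left) from hsecv) Ω.2
  let W' : Set D.W.left := pW.left.base '' (qV.left.base ⁻¹' N₀)
  have hW'o : IsOpen W' := pW.left.isOpenEmbedding.isOpenMap _ (N₀.2.preimage qV.left.continuous)
  have hC : IsClosed (D.p.left.base '' W'ᶜ) := D.p.left.isClosedMap _ hW'o.isClosed_compl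
  let N₂ : D.V.left.Opens := N₀ ⊓ ⟨(D.p.left.base '' W'ᶜ)ᶜ, hC.isOpen_compl⟩
  have hN₂ : ∀ w : D.W.left, D.p.left.base w ∈ N₂ → w ∈ W' := fun w hw => by
    by_contra hw'
    exact hw.2 ⟨w, hw', rfl⟩
  have hvN₂ : v ∈ N₂ := by
    refine ⟨hvN₀, ?_⟩
    rintro ⟨w, hw, hwv⟩
    apply hw
    have e : w = l₀.left.base v' :=
      D.j.left.isOpenEmbedding.injective ((huniq w hwv).trans hl₀v.symm)
    refine ⟨d.left.base v', ?_, ?_⟩
    · show qV.left.base (d.left.base v') ∈ N₀
      rw [show qV.left.base (d.left.base v') = v from congrArg (fun m => m.left.base v') hd2]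
      exact hvN₀
    · rw [e]
      exact congrArg (fun m => m.left.base v') hd1
  -- stability
  have hstab : ∀ τ : PO.left, D.p.left.base (pW.left.base τ) ∈ N₂ → qV.left.base τ ∈ N₂ := by
    intro τ hτ
    obtain ⟨τ', hτ'N, hτ'⟩ := hN₂ _ hτ
    have : τ' = τ := pW.left.isOpenEmbedding.injective hτ'
    subst this
    refine ⟨hτ'N, ?_⟩
    rintro ⟨w, hw, hwq⟩
    apply hw
    let T : Over S := pullback qV D.p
    let θ : T ⟶ PO := pullback.fst qV D.p
    let l : T ⟶ D.W := pullback.snd qV D.p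
    obtain ⟨x, hx1, hx2⟩ := Scheme.exists_preimage_of_isPullback
      ((IsPullback.of_hasPullback qV D.p).map (Over.forget S)) τ' w hwq.symm
    have hS := D.same_comp θ hsame
    have hb : θ ≫ qV = l ≫ D.p := pullback.condition
    have hin : D.InW (l ≫ D.m) (θ ≫ pW ≫ D.p) := by
      have := (hS.2 T (𝟙 T) (l ≫ D.m)).mpr (by rw [Category.id_comp, hb]; exact ⟨l, rfl, rfl⟩)
      rwa [Category.id_comp] at this
    obtain ⟨l₃, h3m, h3p⟩ := hin
    let O : T.left.Opens := l₃.left ⁻¹ᵁ pW.left.opensRange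
    let T₀ : Over S := Over.mk (O.ι ≫ T.hom)
    let e : T₀ ⟶ T := Over.homMk O.ι rfl
    have hr3 : Set.range (O.ι ≫ l₃.left) ⊆ Set.range pW.left := by
      rintro _ ⟨y, rfl⟩
      rw [Scheme.Hom.comp_apply]
      exact (y : O.toScheme).2
    let θ₃ : T₀ ⟶ PO := Over.homMk (IsOpenImmersion.lift pW.left (O.ι ≫ l₃.left) hr3) (by
      rw [← Over.w pW, IsOpenImmersion.lift_fac_assoc, Category.assoc, Over.w l₃]; rfl)
    have h3 : θ₃ ≫ pW = e ≫ l₃ := Over.OverMorphism.ext (IsOpenImmersion.lift_fac _ _ _)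
    obtain ⟨θ', hθ1, hθ2⟩ := hchar T₀ (e ≫ l) (θ₃ ≫ qV)
      (by rw [Category.assoc, hqg, reassoc_of% h3, Category.assoc]
          exact congrArg (e ≫ ·) h3m) (by
        refine D.same_trans ?_ (D.same_comp θ₃ hsame)
        rw [reassoc_of% h3, Category.assoc, ← hb, h3p]
        exact D.same_comp e (D.same_symm hS))
    have hx3 : l₃.left.base x ∈ W' := by
      refine hN₂ _ ?_
      rw [show D.p.left.base (l₃.left.base x) = D.p.left.base (pW.left.base (θ.left.base x)) from
        congrArg (fun m => m.left.base x) h3p, show θ.left.base x = τ' from hx1]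
      exact hτ
    obtain ⟨τ₃, hτ₃N, hτ₃⟩ := hx3
    let x₀ : T₀.left := (⟨x, ⟨τ₃, hτ₃⟩⟩ : O.toScheme)
    refine ⟨θ'.left.base x₀, ?_, ?_⟩
    · show qV.left.base (θ'.left.base x₀) ∈ N₀
      rw [show qV.left.base (θ'.left.base x₀) = qV.left.base (θ₃.left.base x₀) from
        congrArg (fun m => m.left.base x₀) hθ2]
      have : θ₃.left.base x₀ = τ₃ := pW.left.isOpenEmbedding.injective
        ((congrArg (fun m => m.left.base x₀) h3).trans hτ₃.symm)
      rw [this]
      exact hτ₃N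
    · exact (congrArg (fun m => m.left.base x₀) hθ1).trans hx2
  -- the relation
  let p₀ : PO ⟶ D.V := pW ≫ D.p
  let O : PO.left.Opens := p₀.left ⁻¹ᵁ N₂
  let N : Over S := Over.mk (N₂.ι ≫ D.V.hom)
  let k : N ⟶ D.V := Over.homMk N₂.ι rfl
  let RN : Over S := Over.mk (O.ι ≫ PO.hom)
  let j : RN ⟶ PO := Over.homMk O.ι rfl
  let p : RN ⟶ N := Over.homMk (p₀.left ∣_ N₂) (by
    show (p₀.left ∣_ N₂) ≫ N₂.ι ≫ D.V.hom = O.ι ≫ PO.hom
    rw [morphismRestrict_ι_assoc, Over.w p₀])
  have hpk : p ≫ k = j ≫ p₀ := Over.OverMorphism.ext (morphismRestrict_ι p₀.left N₂)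
  have hrq : Set.range (O.ι ≫ qV.left) ⊆ Set.range N₂.ι := by
    rintro _ ⟨y, rfl⟩
    rw [Scheme.Opens.range_ι, Scheme.Hom.comp_apply]
    exact hstab _ (y : O.toScheme).2
  let q : RN ⟶ N := Over.homMk (IsOpenImmersion.lift N₂.ι (O.ι ≫ qV.left) hrq) (by
    show _ ≫ N₂.ι ≫ D.V.hom = O.ι ≫ PO.hom
    rw [IsOpenImmersion.lift_fac_assoc, Category.assoc, Over.w qV])
  have hqk : q ≫ k = j ≫ qV := Over.OverMorphism.ext (IsOpenImmersion.lift_fac _ _ _)
  haveI : IsOpenImmersion j.left := inferInstanceAs (IsOpenImmersion O.ι)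
  haveI : IsOpenImmersion k.left := inferInstanceAs (IsOpenImmersion N₂.ι)
  haveI : Mono j := Over.mono_of_mono_left j
  haveI : Mono k := Over.mono_of_mono_left k
  have hkN : ∀ {T : Over S} (a : T ⟶ N), Set.range (a ≫ k).left.base ⊆ N₂ := fun a => by
    rintro _ ⟨x, rfl⟩
    exact (a.left.base x).2
  have hrel : ∀ (T : Over S) (a b : T ⟶ N), (∃ r : T ⟶ RN, r ≫ q = a ∧ r ≫ p = b) ↔
      D.Same (a ≫ k) (b ≫ k) := by
    refine fun T a b => ⟨fun ⟨r, h1, h2⟩ => ?_, fun h => ?_⟩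
    · rw [← h1, ← h2, Category.assoc, Category.assoc, hqk, hpk]
      exact D.same_comp r (D.same_symm (D.same_comp j hsame))
    · have hin := hdiag T (a ≫ k) (fun x hx => hN₀Ω (hkN a hx).1)
      have := (h.2 T (𝟙 T) ((a ≫ k) ≫ g)).mp (by rw [Category.id_comp]; exact hin)
      rw [Category.id_comp] at this
      obtain ⟨l, hl1, hl2⟩ := this
      obtain ⟨θ, hθ1, hθ2⟩ := hchar T l (a ≫ k) hl1.symm (by rw [hl2]; exact D.same_symm h)
      have hθp : θ ≫ p₀ = b ≫ k := by
        show θ ≫ pW ≫ D.p = b ≫ k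
        rw [reassoc_of% hθ1, hl2]
      have hr : Set.range θ.left ⊆ Set.range O.ι := by
        rintro _ ⟨x, rfl⟩
        rw [Scheme.Opens.range_ι]
        show p₀.left.base (θ.left.base x) ∈ N₂
        rw [show p₀.left.base (θ.left.base x) = (b ≫ k).left.base x from
          congrArg (fun m => m.left.base x) hθp]
        exact hkN b ⟨x, rfl⟩
      let r : T ⟶ RN := Over.homMk (IsOpenImmersion.lift O.ι θ.left hr) (by
        show _ ≫ O.ι ≫ PO.hom = T.hom
        rw [IsOpenImmersion.lift_fac_assoc, Over.w θ])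
      have hrj : r ≫ j = θ := Over.OverMorphism.ext (IsOpenImmersion.lift_fac _ _ _)
      exact ⟨r, (cancel_mono k).mp (by rw [Category.assoc, hqk, reassoc_of% hrj, hθ2]),
        (cancel_mono k).mp (by rw [Category.assoc, hpk, reassoc_of% hrj, hθp])⟩
  have heqv : IsEqvRel p q :=
    { injective := fun T r r' h1 h2 => by
        apply (cancel_mono j).mp
        apply (cancel_mono pW).mp
        have key : ∀ r : T ⟶ RN, ((r ≫ j) ≫ pW) ≫ D.m = (r ≫ q) ≫ k ≫ g := fun r => by
          rw [Category.assoc (r ≫ j) pW, ← hqg, Category.assoc r j, ← Category.assoc j qV g, ← hqk,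
            Category.assoc q k g, ← Category.assoc r q]
        refine D.hom_ext_W ?_ ?_
        · rw [key r, key r', h1]
        · have := congrArg (· ≫ k) h2
          simp only [Category.assoc, hpk] at this ⊢
          exact this
      equivalence := fun T => by
        have e : (fun a b : T ⟶ N => ∃ r : T ⟶ RN, r ≫ q = a ∧ r ≫ p = b) =
            fun a b => D.Same (a ≫ k) (b ≫ k) := funext fun a => funext fun b => propext (hrel T a b)
        rw [e]
        exact ⟨fun a => D.same_refl _, fun h => D.same_symm h, fun h h' => D.same_trans h h'⟩ }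
  have hp : p.left = (pW.left ∣_ (D.p.left ⁻¹ᵁ N₂)) ≫ (D.p.left ∣_ N₂) := morphismRestrict_comp pW.left D.p.left N₂
  haveI : IsIso (pW.left ∣_ (D.p.left ⁻¹ᵁ N₂)) := by
    haveI : Surjective (pW.left ∣_ (D.p.left ⁻¹ᵁ N₂)) := ⟨fun w => by
      obtain ⟨τ, -, hτ⟩ := hN₂ _ (show D.p.left.base w.1 ∈ N₂ from w.2)
      refine ⟨⟨τ, show pW.left.base τ ∈ D.p.left ⁻¹ᵁ N₂ from hτ ▸ w.2⟩, Subtype.ext ?_⟩
      let z : (pW.left ⁻¹ᵁ (D.p.left ⁻¹ᵁ N₂)).toScheme :=
        ⟨τ, show pW.left.base τ ∈ D.p.left ⁻¹ᵁ N₂ from hτ ▸ w.2⟩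
      have hz : ((pW.left ∣_ (D.p.left ⁻¹ᵁ N₂)) ≫ (D.p.left ⁻¹ᵁ N₂).ι).base z = pW.left.base τ :=
        congrArg (fun m => m.base z) (morphismRestrict_ι pW.left (D.p.left ⁻¹ᵁ N₂))
      exact hz.trans hτ⟩
    haveI : IsOpenImmersion (pW.left ∣_ (D.p.left ⁻¹ᵁ N₂)) :=
      IsZariskiLocalAtTarget.restrict (P := @IsOpenImmersion) ‹_› _
    exact (isIso_iff_isOpenImmersion_and_epi_base _).mpr
      ⟨inferInstance, (TopCat.epi_iff_surjective _).mpr (Scheme.Hom.surjective _)⟩
  haveI hfin : IsFinite p.left := by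
    haveI : IsFinite (D.p.left ∣_ N₂) := IsZariskiLocalAtTarget.restrict (P := @IsFinite) inferInstance _
    rw [hp]
    infer_instance
  refine ⟨{
    N := N, k := k, RN := RN, p := p, q := q
    open_k := inferInstance
    mem := ⟨⟨v, hvN₂⟩, rfl⟩
    eqv := heqv
    rel := hrel
    finite_p := hfin
    flat_p := ?_
    lfp_p := ?_
    affine := fun n => ?_
    sec_mem := fun T a => ⟨(a ≫ k) ≫ g, hdiag T (a ≫ k) (fun x hx => hN₀Ω (hkN a hx).1), by
      rw [hxi, Functor.map_comp, Category.assoc]⟩ }⟩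
  · rw [hp]
    haveI : Flat (D.p.left ∣_ N₂) := IsZariskiLocalAtTarget.restrict (P := @Flat) inferInstance _
    infer_instance
  · rw [hp]
    haveI : LocallyOfFinitePresentation (D.p.left ∣_ N₂) :=
      IsZariskiLocalAtTarget.restrict (P := @LocallyOfFinitePresentation) inferInstance _
    infer_instance
  · haveI : IsAffine (Scheme.Opens.toScheme N₀) := hN₀
    haveI : IsImmersion (D.V.left.homOfLE (inf_le_left : N₂ ≤ N₀)) := inferInstance
    obtain ⟨A, hA, hsub⟩ := MiscFlat6.exists_affineOpen_of_finite (D.V.left.homOfLE (inf_le_left : N₂ ≤ N₀))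
      (q.left.base '' (p.left.base ⁻¹' {n})) ((p.left.finite_preimage_singleton n).image _)
    exact ⟨A, hA, fun r hr => hsub ⟨r, hr, rfl⟩⟩

end Groth.Agent.Boot
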