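import Mathlib
import Groth.Agent.BootLib.Stable
import Groth.Agent.QuotRepLib.Finite
import Groth.Agent.QuotRepLib.Saturate
import Groth.Agent.AlgSpLib.LocalTarget
import Groth.Agent.S0114

/-!
# An etale chart from a finite flat relation
-/

set_option autoImplicit false
set_option backward.isDefEq.respectTransparency false
set_option maxHeartbeats 1600000

universe u

open CategoryTheory CategoryTheory.Limits MonoidalCategory CartesianMonoidalCategory AlgebraicGeometry Opposite
open AlgSp AlgSpLib Groth.Agent.QuotRep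

noncomputable section

namespace Groth.Agent.Boot

variable {S : Scheme.{u}} {R U : Over S} {F : Sp S} {π : (yon S).obj U ⟶ F} [Sheaf.IsLocallySurjective π]

variable {s t : R ⟶ U} (sq : IsPullback ((yon S).map t) ((yon S).map s) π π)
variable [LocallyOfFiniteType s.left] [LocallyQuasiFinite s.left] [IsSeparated s.left]

include sq in
/-- A quotient of a stable relation is etale over the quotient sheaf. -/
theorem exists_chart_of_stableRel (D : Fam π) [Flat D.zt.left] [LocallyOfFinitePresentation D.zt.left]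
    (v : D.V.left) (A : StableRel D v) (z₀ : D.Z.left) (hz₀ : D.zp.left.base z₀ = v) :
    ∃ (X : Over S) (eM : (yon S).obj X ⟶ F), RepWith @Etale eM ∧
      ∃ (K : Over S) (k2 : K ⟶ U) (k1 : K ⟶ X), IsPullback ((yon S).map k2) ((yon S).map k1) π eM ∧
        D.zt.left.base z₀ ∈ Set.range k2.left.base := by
  haveI := A.open_k
  haveI := A.finite_p
  haveI := A.flat_p
  haveI := A.lfp_p
  obtain ⟨e, he, heq⟩ := exists_inverse_iso A.eqv
  haveI := he
  haveI : IsFinite A.q.left := by rw [← heq]; infer_instance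
  haveI : Flat A.q.left := by rw [← heq]; infer_instance
  haveI : LocallyOfFinitePresentation A.q.left := by rw [← heq]; infer_instance
  have hrep := isRepSh_of_finite_relation (isPullback_qπ A.p A.q A.eqv) A.affine
  obtain ⟨X, m, sqm, hm1, hm2, hm3⟩ := exists_quotient_of_isRepSh A.eqv hrep
  haveI := hm1; haveI := hm2; haveI := hm3
  haveI := isLocallySurjective_yon_map m
  have hker : ∀ (T : Over S) (a b : T ⟶ A.N), a ≫ m = b ≫ m ↔ D.Same (a ≫ A.k) (b ≫ A.k) := by
    refine fun T a b => ⟨fun h => (A.rel T a b).mp ⟨sqm.lift a b h, sqm.lift_fst _ _ _, sqm.lift_snd _ _ _⟩,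
      fun h => ?_⟩
    obtain ⟨r, h1, h2⟩ := (A.rel T a b).mpr h
    rw [← h1, ← h2, Category.assoc, Category.assoc, sqm.w]
  obtain ⟨eM, heM⟩ := exists_desc ((yon S).map m) ((yon S).map A.k ≫ D.xi) fun T b b' h => by
    obtain ⟨b, rfl⟩ := (yon S).map_surjective b
    obtain ⟨b', rfl⟩ := (yon S).map_surjective b'
    rw [← Functor.map_comp, ← Functor.map_comp] at h
    have := ((hker T b b').mp ((yon S).map_injective h)).1
    rw [← Functor.map_comp_assoc, ← Functor.map_comp_assoc]
    exact this
  -- the fibre product with `U`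
  have hπsl : RepWith SepLqf ((yon S).map s) :=
    (repWith_yon_map_iff _ _).2 ⟨inferInstance, inferInstance, inferInstance⟩
  have hπ : Representable π := representable_of_cover isEffClass_sepLqf sq hπsl
  obtain ⟨K, k1, fstK, sqK₀⟩ := hπ eM
  obtain ⟨k2, hk2⟩ := (yon S).map_surjective fstK
  subst hk2
  have sqK : IsPullback ((yon S).map k2) ((yon S).map k1) π eM := sqK₀
  let ZN : Over S := Over.mk (pullback.fst D.zp.left A.k.left ≫ D.Z.hom)
  let zn : ZN ⟶ D.Z := Over.homMk (pullback.fst D.zp.left A.k.left) rfl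
  let zN : ZN ⟶ A.N := Over.homMk (pullback.snd D.zp.left A.k.left) (by
    show pullback.snd D.zp.left A.k.left ≫ A.N.hom = pullback.fst D.zp.left A.k.left ≫ D.Z.hom
    rw [← Over.w A.k, ← pullback.condition_assoc, Over.w D.zp])
  have sqN : IsPullback zn zN D.zp A.k := isPullback_over (IsPullback.of_hasPullback D.zp.left A.k.left)
  have sqN' : IsPullback ((yon S).map (zn ≫ D.zt)) ((yon S).map zN) π ((yon S).map m ≫ eM) := by
    rw [heM, Functor.map_comp]
    exact (sqN.map (yon S)).paste_horiz D.sq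
  obtain ⟨κ, hκ⟩ := (yon S).map_surjective
    (sqK.lift ((yon S).map (zn ≫ D.zt)) ((yon S).map (zN ≫ m)) (by
      rw [sqN'.w, Functor.map_comp, Category.assoc]))
  have hκ2 : κ ≫ k2 = zn ≫ D.zt := (yon S).map_injective (by rw [Functor.map_comp, hκ, IsPullback.lift_fst])
  have hκ1 : κ ≫ k1 = zN ≫ m := (yon S).map_injective (by rw [Functor.map_comp, hκ, IsPullback.lift_snd])
  have sqκ : IsPullback κ zN k1 m := by
    refine IsPullback.of_map (yon S) hκ1 (IsPullback.of_right (h₁₂ := (yon S).map k2) (v₁₃ := π)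
      (h₂₂ := eM) ?_ (by rw [← Functor.map_comp, ← Functor.map_comp, hκ1]) sqK)
    rw [← Functor.map_comp, hκ2]
    exact sqN'
  haveI : Flat κ.left := MorphismProperty.of_isPullback (P := @Flat) (sqκ.map (Over.forget S)).flip hm1
  haveI : Surjective κ.left := MorphismProperty.of_isPullback (P := @Surjective) (sqκ.map (Over.forget S)).flip hm2
  haveI : LocallyOfFinitePresentation κ.left :=
    MorphismProperty.of_isPullback (P := @LocallyOfFinitePresentation) (sqκ.map (Over.forget S)).flip hm3
  haveI : IsOpenImmersion zn.left := inferInstanceAs (IsOpenImmersion (pullback.fst D.zp.left A.k.left))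
  haveI : Flat (κ.left ≫ k2.left) := by rw [← Over.comp_left, hκ2, Over.comp_left]; infer_instance
  haveI : LocallyOfFinitePresentation (κ.left ≫ k2.left) := by
    rw [← Over.comp_left, hκ2, Over.comp_left]; infer_instance
  haveI : Flat k2.left := flat_of_comp_surjective κ.left k2.left
  haveI : LocallyOfFinitePresentation k2.left := S0114.result κ.left k2.left
  -- the diagonal of `k2`
  let KK : Over S := Over.mk (pullback.fst k2.left k2.left ≫ K.hom)
  let q₁ : KK ⟶ K := Over.homMk (pullback.fst k2.left k2.left) rfl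
  let q₂ : KK ⟶ K := Over.homMk (pullback.snd k2.left k2.left) (by
    show pullback.snd k2.left k2.left ≫ K.hom = pullback.fst k2.left k2.left ≫ K.hom
    rw [← Over.w k2, pullback.condition_assoc])
  have sqKK : IsPullback q₁ q₂ k2 k2 := isPullback_over (IsPullback.of_hasPullback k2.left k2.left)
  let Δ : K ⟶ KK := sqKK.lift (𝟙 K) (𝟙 K) rfl
  have hΔ1 : Δ ≫ q₁ = 𝟙 K := sqKK.lift_fst _ _ _
  have hΔ2 : Δ ≫ q₂ = 𝟙 K := sqKK.lift_snd _ _ _
  let ZZ : Over S := Over.mk (pullback.fst (κ.left ≫ k2.left) (κ.left ≫ k2.left) ≫ ZN.hom)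
  let l₁ : ZZ ⟶ ZN := Over.homMk (pullback.fst (κ.left ≫ k2.left) (κ.left ≫ k2.left)) rfl
  let l₂ : ZZ ⟶ ZN := Over.homMk (pullback.snd (κ.left ≫ k2.left) (κ.left ≫ k2.left)) (by
    show pullback.snd (κ.left ≫ k2.left) (κ.left ≫ k2.left) ≫ ZN.hom = pullback.fst _ _ ≫ ZN.hom
    rw [← Over.w (κ ≫ k2), Over.comp_left, pullback.condition_assoc])
  have hl : (l₁ ≫ κ) ≫ k2 = (l₂ ≫ κ) ≫ k2 := by
    apply Over.OverMorphism.ext
    simp only [Over.comp_left, Category.assoc]
    exact pullback.condition
  have sqZZ : IsPullback l₁ l₂ (κ ≫ k2) (κ ≫ k2) :=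
    isPullback_over (by simp only [Over.comp_left]; exact IsPullback.of_hasPullback _ _)
  let χ : ZZ ⟶ KK := sqKK.lift (l₁ ≫ κ) (l₂ ≫ κ) hl
  have hχ1 : χ ≫ q₁ = l₁ ≫ κ := sqKK.lift_fst _ _ _
  have hχ2 : χ ≫ q₂ = l₂ ≫ κ := sqKK.lift_snd _ _ _
  have hab : (yon S).map ((l₁ ≫ zN) ≫ A.k) ≫ D.xi = (yon S).map ((l₂ ≫ zN) ≫ A.k) ≫ D.xi := by
    have e : ∀ l : ZZ ⟶ ZN, (yon S).map ((l ≫ zN) ≫ A.k) ≫ D.xi = (yon S).map ((l ≫ κ) ≫ k2) ≫ π := fun l => by
      rw [Category.assoc l κ k2, hκ2, Category.assoc l zN A.k, ← sqN.w, Functor.map_comp, Functor.map_comp,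
        Category.assoc, Category.assoc, ← D.sq.w, Functor.map_comp, Functor.map_comp, Category.assoc,
        Category.assoc]
    rw [e, e, hl]
  obtain ⟨E, hE, hEiff⟩ := D.exists_same_locus _ _ hab
  let EO : Over S := Over.mk (E.ι ≫ ZZ.hom)
  let i : EO ⟶ ZZ := Over.homMk E.ι rfl
  haveI : IsOpenImmersion i.left := inferInstanceAs (IsOpenImmersion E.ι)
  haveI : Mono i := Over.mono_of_mono_left i
  haveI hcl : IsClosedImmersion i.left := by
    refine .of_isPreimmersion i.left ?_
    show IsClosed (Set.range E.ι)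
    rw [Scheme.Opens.range_ι]
    exact hE
  have hiE : i ≫ l₁ ≫ κ = i ≫ l₂ ≫ κ := by
    have hS := (hEiff EO i).mp (by rintro _ ⟨x, rfl⟩; exact (x : E.toScheme).2)
    have h1 : ((i ≫ l₁) ≫ zN) ≫ m = ((i ≫ l₂) ≫ zN) ≫ m := (hker EO _ _).mpr (by
      simpa only [Category.assoc] using hS)
    apply (yon S).map_injective
    refine sqK.hom_ext ?_ ?_
    · rw [← Functor.map_comp, ← Functor.map_comp]
      exact congrArg (yon S).map (by simpa only [Category.assoc] using congrArg (i ≫ ·) hl)
    · rw [← Functor.map_comp, ← Functor.map_comp]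
      refine congrArg (yon S).map ?_
      simpa only [Category.assoc, hκ1] using h1
  have sqd : IsPullback (i ≫ l₁ ≫ κ) i Δ χ := by
    have w : (i ≫ l₁ ≫ κ) ≫ Δ = i ≫ χ := sqKK.hom_ext
      (by rw [Category.assoc, hΔ1, Category.comp_id, Category.assoc i χ, hχ1])
      (by rw [Category.assoc, hΔ2, Category.comp_id, Category.assoc i χ, hχ2, hiE])
    have hex : ∀ (c : PullbackCone Δ χ), ∃ r : c.pt ⟶ EO, r ≫ i = c.snd ∧ r ≫ i ≫ l₁ ≫ κ = c.fst := by
      intro c
      have h1 : c.fst = c.snd ≫ l₁ ≫ κ := by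
        have := congrArg (· ≫ q₁) c.condition
        simpa only [Category.assoc, hΔ1, hχ1, Category.comp_id] using this
      have h2 : c.fst = c.snd ≫ l₂ ≫ κ := by
        have := congrArg (· ≫ q₂) c.condition
        simpa only [Category.assoc, hΔ2, hχ2, Category.comp_id] using this
      have h3 := (hker c.pt (c.snd ≫ l₁ ≫ zN) (c.snd ≫ l₂ ≫ zN)).mp (by
        have := congrArg (· ≫ k1) (h1.symm.trans h2)
        simpa only [Category.assoc, hκ1] using this)
      have hr : Set.range c.snd.left ⊆ Set.range E.ι := by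
        rw [Scheme.Opens.range_ι]
        refine (hEiff c.pt c.snd).mpr ?_
        simpa only [Category.assoc] using h3
      let r : c.pt ⟶ EO := Over.homMk (IsOpenImmersion.lift E.ι c.snd.left hr) (by
        show _ ≫ E.ι ≫ ZZ.hom = c.pt.hom
        rw [IsOpenImmersion.lift_fac_assoc, Over.w c.snd])
      have hri : r ≫ i = c.snd := Over.OverMorphism.ext (IsOpenImmersion.lift_fac _ _ _)
      exact ⟨r, hri, by rw [reassoc_of% hri, h1]⟩
    choose r hr1 hr2 using hex
    exact ⟨⟨w⟩, ⟨PullbackCone.IsLimit.mk _ r hr2 hr1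
      fun c m' _ h2 => (cancel_mono i).mp (h2.trans (hr1 c).symm)⟩⟩
  have hdiag : Δ.left = pullback.diagonal k2.left := by
    apply pullback.hom_ext
    · rw [pullback.diagonal_fst]
      exact congrArg Over.Hom.left hΔ1
    · rw [pullback.diagonal_snd]
      exact congrArg Over.Hom.left hΔ2
  have hQ : (@Surjective ⊓ @Flat ⊓ @LocallyOfFinitePresentation : MorphismProperty Scheme.{u}) χ.left := by
    have e : χ.left = pullback.map (κ.left ≫ k2.left) (κ.left ≫ k2.left) k2.left k2.left κ.left κ.left (𝟙 _)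
        (by simp) (by simp) := by
      apply pullback.hom_ext
      · rw [pullback.lift_fst]
        exact congrArg Over.Hom.left hχ1
      · rw [pullback.lift_snd]
        exact congrArg Over.Hom.left hχ2
    rw [e]
    exact ⟨⟨MorphismProperty.pullbackMap (P := @Surjective) inferInstance inferInstance rfl rfl,
      MorphismProperty.pullbackMap (P := @Flat) inferInstance inferInstance rfl rfl⟩,
      MorphismProperty.pullbackMap (P := @LocallyOfFinitePresentation) inferInstance inferInstance rfl rfl⟩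
  haveI : IsOpenImmersion (pullback.diagonal k2.left) := by
    rw [← hdiag]
    exact MorphismProperty.of_isPullback_of_descendsAlong (P := @IsOpenImmersion)
      (Q := @Surjective ⊓ @Flat ⊓ @LocallyOfFinitePresentation) (sqd.map (Over.forget S)).flip hQ
      (inferInstanceAs (IsOpenImmersion i.left))
  haveI : IsSeparated k2.left := ⟨by
    rw [← hdiag]
    exact MorphismProperty.of_isPullback_of_descendsAlong (P := @IsClosedImmersion)
      (Q := @Surjective ⊓ @Flat ⊓ @LocallyOfFinitePresentation) (sqd.map (Over.forget S)).flip hQ hcl⟩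
  haveI : Etale k2.left := Etale.of_formallyUnramified_of_flat k2.left
  haveI : LocallyQuasiFinite k2.left := locallyQuasiFinite_of_etale k2.left
  have heR : Representable eM := representable_of_cover isEffClass_sepLqf sqK.flip
    ((repWith_yon_map_iff _ _).2 ⟨inferInstance, inferInstance, inferInstance⟩)
  refine ⟨X, eM, repWith_of_cover sqK.flip heR ((repWith_yon_map_iff (P := @Etale) _).2 ‹_›), K, k2, k1, sqK, ?_⟩
  obtain ⟨n, hn⟩ := A.mem
  obtain ⟨y, hy, -⟩ := Scheme.exists_preimage_of_isPullback (sqN.map (Over.forget S)) z₀ n (hz₀.trans hn.symm)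
  exact ⟨κ.left.base y, (congrArg (fun f => f.left.base y) hκ2).trans (congrArg D.zt.left.base hy)⟩

end Groth.Agent.Boot
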