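import Mathlib
import Groth.Agent.AlgSpLib.SepLqfScheme
import Groth.Agent.AlgSpLib.MorPack
import Groth.Agent.AlgSpLib.LocalTarget
import Groth.Agent.AlgSpLib.SheafDesc
import Groth.Agent.FlatLib.SmoothScheme
import Groth.Agent.QuotRepLib.Rel

/-!
# Quotients of separated etale schemes by clopen relations
-/

set_option autoImplicit false
set_option backward.isDefEq.respectTransparency false
set_option maxHeartbeats 800000

universe u

open CategoryTheory CategoryTheory.Limits AlgebraicGeometry Opposite
open AlgSp AlgSpLib Groth.Agent.QuotRep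

noncomputable section

namespace Groth.Agent.Boot

variable {S : Scheme.{u}} {V U : Over S}

/-- The quotient of a separated etale `U`-scheme by a clopen relation is separated etale over `U`. -/
theorem exists_sep_quotient (g : V ⟶ U) [Etale g.left] [IsSeparated g.left]
    (Rl : ∀ T : Over S, (T ⟶ V) → (T ⟶ V) → Prop) (heq : ∀ T, Equivalence (Rl T))
    (hle : ∀ (T : Over S) (a b : T ⟶ V), Rl T a b → a ≫ g = b ≫ g)
    (hloc : ∀ (T₀ : Over S) (a b : T₀ ⟶ V), a ≫ g = b ≫ g → ∃ E : T₀.left.Opens, IsClosed (E : Set T₀.left) ∧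
      ∀ (T : Over S) (c : T ⟶ T₀), Set.range c.left.base ⊆ E ↔ Rl T (c ≫ a) (c ≫ b)) :
    ∃ (V1 : Over S) (c : V ⟶ V1) (g1 : V1 ⟶ U), c ≫ g1 = g ∧ Etale c.left ∧ Surjective c.left ∧ Etale g1.left ∧
      IsSeparated g1.left ∧ ∀ (T : Over S) (a b : T ⟶ V), a ≫ c = b ≫ c ↔ Rl T a b := by
  let VV : Over S := Over.mk (pullback.fst g.left g.left ≫ V.hom)
  let p₁ : VV ⟶ V := Over.homMk (pullback.fst g.left g.left) rfl
  let p₂ : VV ⟶ V := Over.homMk (pullback.snd g.left g.left) (by
    show pullback.snd g.left g.left ≫ V.hom = pullback.fst g.left g.left ≫ V.hom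
    rw [← Over.w g, pullback.condition_assoc])
  have sqV : IsPullback p₁ p₂ g g := isPullback_over (IsPullback.of_hasPullback g.left g.left)
  obtain ⟨E, hE, hEiff⟩ := hloc VV p₁ p₂ sqV.w
  let EO : Over S := Over.mk (E.ι ≫ VV.hom)
  let i : EO ⟶ VV := Over.homMk E.ι rfl
  haveI : IsOpenImmersion i.left := inferInstanceAs (IsOpenImmersion E.ι)
  haveI : Mono i := Over.mono_of_mono_left i
  haveI hcl : IsClosedImmersion i.left := by
    refine .of_isPreimmersion i.left ?_
    show IsClosed (Set.range E.ι)
    rw [Scheme.Opens.range_ι]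
    exact hE
  let tE : EO ⟶ V := i ≫ p₁
  let sE : EO ⟶ V := i ≫ p₂
  have hrel : ∀ (T : Over S) (a b : T ⟶ V), (∃ r : T ⟶ EO, r ≫ tE = a ∧ r ≫ sE = b) ↔ Rl T a b := by
    refine fun T a b => ⟨fun ⟨r, h1, h2⟩ => ?_, fun h => ?_⟩
    · rw [← h1, ← h2, ← Category.assoc, ← Category.assoc]
      refine (hEiff T (r ≫ i)).mp ?_
      rintro _ ⟨x, rfl⟩
      exact (r.left.base x).2
    · let k := sqV.lift a b (hle T a b h)
      have hk1 : k ≫ p₁ = a := sqV.lift_fst _ _ _
      have hk2 : k ≫ p₂ = b := sqV.lift_snd _ _ _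
      have hr : Set.range k.left ⊆ Set.range E.ι := by
        rw [Scheme.Opens.range_ι]
        exact (hEiff T k).mpr (by rwa [hk1, hk2])
      let r : T ⟶ EO := Over.homMk (IsOpenImmersion.lift E.ι k.left hr) (by
        show _ ≫ E.ι ≫ VV.hom = T.hom
        rw [IsOpenImmersion.lift_fac_assoc, Over.w k])
      have hri : r ≫ i = k := Over.OverMorphism.ext (IsOpenImmersion.lift_fac _ _ _)
      exact ⟨r, by rw [show tE = i ≫ p₁ from rfl, reassoc_of% hri, hk1],
        by rw [show sE = i ≫ p₂ from rfl, reassoc_of% hri, hk2]⟩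
  haveI : Etale p₁.left := inferInstanceAs (Etale (pullback.fst g.left g.left))
  haveI : Etale p₂.left := inferInstanceAs (Etale (pullback.snd g.left g.left))
  have hrelE : IsEtaleEqvRel sE tE :=
    { injective := fun T r r' h1 h2 => (cancel_mono i).mp (sqV.hom_ext
        (by rw [Category.assoc, Category.assoc]; exact h1) (by rw [Category.assoc, Category.assoc]; exact h2))
      equivalence := fun T => by
        have e : (fun a b : T ⟶ V => ∃ r : T ⟶ EO, r ≫ tE = a ∧ r ≫ sE = b) = Rl T :=
          funext fun a => funext fun b => propext (hrel T a b)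
        rw [e]; exact heq T
      etale_left := inferInstanceAs (Etale (i.left ≫ p₂.left))
      etale_right := inferInstanceAs (Etale (i.left ≫ p₁.left)) }
  let Q := QuotSh.quot Scheme.fppfPrecoverage sE tE
  have hQ : IsAlgSpace Q := isAlgSpace_quot sE tE hrelE
  have hpres := isPresentation_qπ sE tE hrelE
  let qv := qπ sE tE
  obtain ⟨f, hf⟩ := exists_desc qv ((yon S).map g) fun T a b h => by
    obtain ⟨a, rfl⟩ := (yon S).map_surjective a
    obtain ⟨b, rfl⟩ := (yon S).map_surjective b
    have hr := (map_π_eq_iff hrelE.toIsEqvRel a b).mp h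
    rw [← Functor.map_comp, ← Functor.map_comp, hle T a b ((hrel T a b).mp hr)]
  -- the diagonal
  let qq : (yon S).obj VV ⟶ pullback f f := pullback.lift ((yon S).map p₁ ≫ qv) ((yon S).map p₂ ≫ qv) (by
    rw [Category.assoc, Category.assoc, hf, ← Functor.map_comp, ← Functor.map_comp, sqV.w])
  have sqd : IsPullback ((yon S).map tE ≫ qv) ((yon S).map i) (pullback.diagonal f) qq := by
    have w : ((yon S).map tE ≫ qv) ≫ pullback.diagonal f = (yon S).map i ≫ qq := by
      apply pullback.hom_ext
      · simp only [qq, Category.assoc, pullback.diagonal_fst, Category.comp_id, pullback.lift_fst]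
        rw [Functor.map_comp, Category.assoc]
      · simp only [qq, Category.assoc, pullback.diagonal_snd, Category.comp_id, pullback.lift_snd]
        rw [hpres.isPullback.w, Functor.map_comp, Category.assoc]
    refine isPullback_of_forall_existsUnique w fun T x y hxy => ?_
    obtain ⟨y, rfl⟩ := (yon S).map_surjective y
    have h1 : x = (yon S).map (y ≫ p₁) ≫ qv := by
      simpa [qq] using congrArg (· ≫ pullback.fst f f) hxy
    have h2 : x = (yon S).map (y ≫ p₂) ≫ qv := by
      simpa [qq] using congrArg (· ≫ pullback.snd f f) hxy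
    obtain ⟨r, hr1, hr2⟩ := (map_π_eq_iff hrelE.toIsEqvRel (y ≫ p₁) (y ≫ p₂)).mp (h1.symm.trans h2)
    have hri : r ≫ i = y := sqV.hom_ext (by rw [Category.assoc]; exact hr1) (by rw [Category.assoc]; exact hr2)
    refine ⟨(yon S).map r, ⟨?_, by rw [← Functor.map_comp, hri]⟩, fun l ⟨_, hl⟩ => ?_⟩
    · rw [h1, ← Category.assoc, ← Functor.map_comp, hr1]
    · rw [← cancel_mono ((yon S).map i), hl, ← Functor.map_comp, hri]
  have hqq : ∀ (P : MorphismProperty Scheme.{u}) [P.IsStableUnderBaseChange] [P.IsStableUnderComposition],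
      RepWith P qv → RepWith P qq := by
    intro P _ _ hP
    haveI : (P.inverseImage (Over.forget S)).IsStableUnderComposition := inferInstance
    haveI : (RepWith (S := S) P).IsStableUnderComposition := MorphismProperty.relative_isStableUnderComposition _
    let e₀ : (yon S).obj VV ≅ pullback ((yon S).map g) ((yon S).map g) := (sqV.map (yon S)).isoPullback
    have hm : RepWith P (pullback.map ((yon S).map g) ((yon S).map g) f f qv qv (𝟙 _)
        (by rw [hf, Category.comp_id]) (by rw [hf, Category.comp_id])) :=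
      MorphismProperty.pullbackMap (P := RepWith P) hP hP hf.symm hf.symm
    have e : qq = e₀.hom ≫ pullback.map ((yon S).map g) ((yon S).map g) f f qv qv (𝟙 _)
        (by rw [hf, Category.comp_id]) (by rw [hf, Category.comp_id]) := by
      apply pullback.hom_ext <;> simp [qq, e₀]
    rw [e]
    exact MorphismProperty.RespectsIso.precomp _ _ _ hm
  haveI : Sheaf.IsLocallySurjective qq := isLocallySurjective_of_repWith
    (hqq @Flat (repWith_mono (fun _ _ k (_ : Etale k) => (inferInstance : Flat k)) hpres.etale))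
    (hqq @LocallyOfFinitePresentation
      (repWith_mono (fun _ _ k (_ : Etale k) => (inferInstance : LocallyOfFinitePresentation k)) hpres.etale))
    (hqq @Surjective hpres.surjective)
  have hd : RepWith @IsClosedImmersion ((yon S).map i) := (repWith_yon_map_iff _ _).2 hcl
  have hdr : Representable (pullback.diagonal f) := representable_of_cover isEffClass_sepLqf sqd
    ((repWith_yon_map_iff _ _).2 ⟨inferInstance, inferInstance, inferInstance⟩)
  have hsep : IsSeparatedMor f := repWith_of_cover sqd hdr hd
  haveI : LocallyQuasiFinite g.left := locallyQuasiFinite_of_etale g.left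
  have hqf : LocP (@LocallyQuasiFinite ⊓ @LocallyOfFiniteType) f :=
    locP_of_chart hpres.etale hpres.surjective
      (show RepWith @Etale (𝟙 ((yon S).obj U)) from MorphismProperty.id_mem _ _)
      (by rw [Category.comp_id]; exact hf) ⟨inferInstance, inferInstance⟩
  obtain ⟨V1, ⟨φ⟩⟩ := isRepSh_of_sep_lqf hQ hsep hqf
  obtain ⟨c, hc⟩ := (yon S).map_surjective (qv ≫ φ.inv)
  obtain ⟨g1, hg1⟩ := (yon S).map_surjective (φ.hom ≫ f)
  have hcg : c ≫ g1 = g := (yon S).map_injective (by rw [Functor.map_comp, hc, hg1, Category.assoc,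
    Iso.inv_hom_id_assoc, hf])
  haveI hce : Etale c.left := (repWith_yon_map_iff (P := @Etale) c).1 (by
    rw [hc]; exact MorphismProperty.RespectsIso.postcomp _ _ _ hpres.etale)
  haveI hcs : Surjective c.left := (repWith_yon_map_iff (P := @Surjective) c).1 (by
    rw [hc]; exact MorphismProperty.RespectsIso.postcomp _ _ _ hpres.surjective)
  refine ⟨V1, c, g1, hcg, hce, hcs, ?_, ?_, fun T a b => ?_⟩
  · haveI : Etale (c.left ≫ g1.left) := by rw [← Over.comp_left, hcg]; infer_instance
    exact FlatLib.etale_of_fppf_comp c.left g1.left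
  · have h' : IsSeparatedMor ((yon S).map g1) := by
      rw [hg1]
      exact isSeparatedMor_comp (isSeparatedMor_of_repWith (MorphismProperty.of_isIso (RepWith @IsSeparated) _)) hsep
    exact (isSeparatedMor_yon_map_iff g1).1 h'
  · rw [← hrel, ← map_π_eq_iff hrelE.toIsEqvRel]
    refine ⟨fun h => ?_, fun h => ?_⟩
    · have := congrArg (fun m => (yon S).map m ≫ φ.hom) h
      simpa only [Functor.map_comp, hc, Category.assoc, Iso.inv_hom_id, Category.comp_id] using this
    · apply (yon S).map_injective
      rw [Functor.map_comp, Functor.map_comp, hc, ← Category.assoc, ← Category.assoc]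
      exact congrArg (· ≫ φ.inv) h

end Groth.Agent.Boot
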