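import Mathlib
import Groth.Agent.BootLib.Initial
import Groth.Agent.BootLib.SepQuotient

/-!
# The universal splitting
-/

set_option autoImplicit false
set_option backward.isDefEq.respectTransparency false
set_option maxHeartbeats 1600000

universe u

open CategoryTheory CategoryTheory.Limits MonoidalCategory CartesianMonoidalCategory AlgebraicGeometry Opposite
open AlgSp AlgSpLib Groth.Agent.QuotRep

noncomputable section

namespace Groth.Agent.Boot

variable {S : Scheme.{u}} {R U : Over S} {F : Sp S} {π : (yon S).obj U ⟶ F}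

variable {s t : R ⟶ U} (sq : IsPullback ((yon S).map t) ((yon S).map s) π π)
variable [Flat s.left] [LocallyOfFinitePresentation s.left] [LocallyQuasiFinite s.left] [IsSeparated s.left]

/-- Identifying parameters with the same marking and the same family. -/
theorem exists_refinement {V : Over S} (g : V ⟶ U) [Etale g.left] [IsSeparated g.left]
    (W : (pullback s.left g.left).Opens) (hW : IsFinite (W.ι ≫ pullback.snd s.left g.left)) (v : V.left)
    (hspl : (famOf sq g W hW).Splits g v) :
    ∃ (V1 : Over S) (g1 : V1 ⟶ U) (W1 : (pullback s.left g1.left).Opens)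
      (hW1 : IsFinite (W1.ι ≫ pullback.snd s.left g1.left)) (v1 : V1.left), Etale g1.left ∧
      IsSeparated g1.left ∧ g1.left.base v1 = g.left.base v ∧ (famOf sq g1 W1 hW1).Splits g1 v1 ∧
      (famOf sq g1 W1 hW1).Inj g1 := by
  let D : Fam π := famOf sq g W hW
  have hxi : ∀ (T : Over S) (a b : T ⟶ V), a ≫ g = b ≫ g →
      (yon S).map a ≫ D.xi = (yon S).map b ≫ D.xi := fun T a b h => by
    show (yon S).map a ≫ (yon S).map g ≫ π = (yon S).map b ≫ (yon S).map g ≫ π
    rw [← Functor.map_comp_assoc, h, Functor.map_comp_assoc]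
  obtain ⟨V1, c, g1, hcg, hce, hcs, hg1e, hg1s, hker⟩ := exists_sep_quotient g
    (fun T a b => a ≫ g = b ≫ g ∧ D.Same a b)
    (fun T => ⟨fun a => ⟨rfl, D.same_refl a⟩, fun h => ⟨h.1.symm, D.same_symm h.2⟩,
      fun h h' => ⟨h.1.trans h'.1, D.same_trans h.2 h'.2⟩⟩)
    (fun _ _ _ h => h.1) (fun T₀ a b hab => by
      obtain ⟨E, hE, hEiff⟩ := D.exists_same_locus a b (hxi _ a b hab)
      exact ⟨E, hE, fun T d => ⟨fun h => ⟨by rw [Category.assoc, Category.assoc, hab], (hEiff T d).mp h⟩,
        fun h => (hEiff T d).mpr h.2⟩⟩)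
  haveI := hce; haveI := hcs
  -- the comparison of fibre products
  let cz : fibObj s g ⟶ fibObj s g1 := (isPullback_fib s g1).lift (fibR s g) (fibP s g ≫ c)
    (by rw [Category.assoc, hcg]; exact (isPullback_fib s g).w)
  have hcz1 : cz ≫ fibR s g1 = fibR s g := (isPullback_fib s g1).lift_fst _ _ _
  have hcz2 : cz ≫ fibP s g1 = fibP s g ≫ c := (isPullback_fib s g1).lift_snd _ _ _
  have sqc : IsPullback cz (fibP s g) (fibP s g1) c := by
    refine IsPullback.of_right ?_ hcz2 (isPullback_fib s g1)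
    rw [hcz1, hcg]
    exact isPullback_fib s g
  haveI : Etale cz.left := MorphismProperty.of_isPullback (P := @Etale) (sqc.map (Over.forget S)).flip hce
  haveI : Surjective cz.left :=
    MorphismProperty.of_isPullback (P := @Surjective) (sqc.map (Over.forget S)).flip hcs
  let W1 : (pullback s.left g1.left).Opens := ⟨cz.left.base '' (W : Set (pullback s.left g.left : Scheme.{u})),
    cz.left.isOpenMap _ W.2⟩
  have hrW : Set.range D.j.left.base = (W : Set (pullback s.left g.left : Scheme.{u})) := W.range_ι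
  -- the family is saturated
  have hsat : ∀ y w : (fibObj s g).left, cz.left.base y = cz.left.base w → w ∈ W → y ∈ W := by
    intro y w hyw hw
    let T : Over S := pullback cz cz
    obtain ⟨τ, hτ1, hτ2⟩ := Scheme.exists_preimage_of_isPullback
      ((IsPullback.of_hasPullback cz cz).map (Over.forget S)) y w hyw
    let l₁ : T ⟶ D.Z := pullback.fst cz cz
    let l₂ : T ⟶ D.Z := pullback.snd cz cz
    have e := pullback.condition (f := cz) (g := cz)
    have hzt : l₁ ≫ D.zt = l₂ ≫ D.zt := by
      have := congrArg (fun m => m ≫ fibR s g1 ≫ t) e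
      simp only [Category.assoc, reassoc_of% hcz1] at this
      exact this
    have hzp : (l₁ ≫ D.zp) ≫ c = (l₂ ≫ D.zp) ≫ c := by
      have := congrArg (fun m => m ≫ fibP s g1) e
      simp only [Category.assoc, hcz2] at this ⊢
      exact this
    have hS := ((hker T (l₁ ≫ D.zp) (l₂ ≫ D.zp)).mp hzp).2
    let O : T.left.Opens := l₂.left ⁻¹ᵁ W
    let T' : Over S := Over.mk (O.ι ≫ T.hom)
    let o : T' ⟶ T := Over.homMk O.ι rfl
    have h2 : D.InW ((o ≫ l₂) ≫ D.zt) ((o ≫ l₂) ≫ D.zp) := (D.inW_iff (o ≫ l₂)).mpr (by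
      rintro _ ⟨x, rfl⟩
      rw [hrW]
      exact (show l₂.left.base (O.ι.base x) ∈ W from (x : O.toScheme).2))
    rw [Category.assoc o l₂ D.zp, Category.assoc o l₂ D.zt, ← hzt] at h2
    have h1 := (hS.2 T' o _).mpr h2
    rw [← Category.assoc o l₁ D.zp, ← Category.assoc o l₁ D.zt, D.inW_iff, hrW] at h1
    have hτ : τ ∈ O := show l₂.left.base τ ∈ W from (show l₂.left.base τ = w from hτ2) ▸ hw
    have := h1 ⟨⟨τ, hτ⟩, rfl⟩
    rw [← hτ1]
    exact this
  have hpre : cz.left ⁻¹ᵁ W1 = W := by
    refine le_antisymm (fun y hy => ?_) (fun y hy => ⟨y, hy, rfl⟩)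
    obtain ⟨w, hw, he⟩ := hy
    exact hsat y w he.symm hw
  have hW1 : IsFinite (W1.ι ≫ pullback.snd s.left g1.left) := by
    have sq1 := (isPullback_morphismRestrict cz.left W1).paste_vert (sqc.map (Over.forget S))
    refine MorphismProperty.of_isPullback_of_descendsAlong (P := @IsFinite)
      (Q := @Surjective ⊓ @Flat ⊓ @LocallyOfFinitePresentation) sq1.flip
      ⟨⟨hcs, (inferInstance : Flat c.left)⟩, (inferInstance : LocallyOfFinitePresentation c.left)⟩ ?_
    show IsFinite ((cz.left ⁻¹ᵁ W1).ι ≫ pullback.snd s.left g.left)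
    rw [hpre]
    exact hW
  let D1 : Fam π := famOf sq g1 W1 hW1
  have hrW1 : Set.range D1.j.left.base = (W1 : Set (pullback s.left g1.left : Scheme.{u})) := W1.range_ι
  have hin : ∀ (T : Over S) (z : T ⟶ U) (a : T ⟶ V), D1.InW z (a ≫ c) ↔ D.InW z a := by
    refine fun T z a => ⟨fun ⟨l, h1, h2⟩ => ?_, fun ⟨l, h1, h2⟩ => ?_⟩
    · let k := sqc.lift (l ≫ D1.j) a (by rw [Category.assoc]; exact h2)
      have hk1 : k ≫ cz = l ≫ D1.j := sqc.lift_fst _ _ _
      have hk2 : k ≫ fibP s g = a := sqc.lift_snd _ _ _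
      have e1 : k ≫ D.zt = z := by
        show k ≫ fibR s g ≫ t = z
        rw [← hcz1, Category.assoc, reassoc_of% hk1]
        exact h1
      rw [← e1, ← hk2]
      refine (D.inW_iff k).mpr ?_
      rintro _ ⟨x, rfl⟩
      rw [hrW, ← hpre]
      show cz.left.base (k.left.base x) ∈ W1
      rw [show cz.left.base (k.left.base x) = D1.j.left.base (l.left.base x) from
        congrArg (fun m => m.left.base x) hk1]
      exact (l.left.base x).2
    · have e1 : ((l ≫ D.j) ≫ cz) ≫ D1.zt = z := by
        show ((l ≫ D.j) ≫ cz) ≫ fibR s g1 ≫ t = z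
        rw [Category.assoc, Category.assoc, reassoc_of% hcz1]
        exact h1
      have e2 : ((l ≫ D.j) ≫ cz) ≫ D1.zp = a ≫ c := by
        show ((l ≫ D.j) ≫ cz) ≫ fibP s g1 = a ≫ c
        rw [Category.assoc, Category.assoc, hcz2, ← h2]
        exact (congrArg (l ≫ ·) (Category.assoc D.j (fibP s g) c).symm).trans (Category.assoc l _ c).symm
      rw [← e1, ← e2]
      refine (D1.inW_iff _).mpr ?_
      rintro _ ⟨x, rfl⟩
      rw [hrW1]
      exact ⟨D.j.left.base (l.left.base x), (l.left.base x).2, rfl⟩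
  obtain ⟨sec, hs1, hs2, hsv, huniq⟩ := hspl
  refine ⟨V1, g1, W1, hW1, c.left.base v, hg1e, hg1s, ?_, ?_, ?_⟩
  · rw [← hcg]; rfl
  · -- the section
    have hsq := sq
    obtain ⟨e, het, hes⟩ := ((isEqvRel_of_isPullback hsq).equivalence U).refl (𝟙 U)
    let σ : V1 ⟶ fibObj s g1 := (isPullback_fib s g1).lift (g1 ≫ e) (𝟙 V1)
      (by rw [Category.assoc, hes, Category.comp_id, Category.id_comp])
    have hσ1 : σ ≫ D1.zt = g1 := by
      show σ ≫ fibR s g1 ≫ t = g1
      rw [← Category.assoc, IsPullback.lift_fst, Category.assoc, het, Category.comp_id]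
    have hσ2 : σ ≫ D1.zp = 𝟙 V1 := (isPullback_fib s g1).lift_snd _ _ _
    have hcσ : sec ≫ cz = c ≫ σ := D1.hom_ext
      (show (sec ≫ cz) ≫ fibR s g1 ≫ t = (c ≫ σ) ≫ D1.zt by
        rw [Category.assoc, Category.assoc, reassoc_of% hcz1, hσ1, hcg]; exact hs1)
      (show (sec ≫ cz) ≫ fibP s g1 = (c ≫ σ) ≫ D1.zp by
        rw [Category.assoc, Category.assoc, hcz2, hσ2]
        exact (Category.assoc _ _ _).symm.trans
          ((congrArg (· ≫ c) hs2).trans ((Category.id_comp c).trans (Category.comp_id c).symm)))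
    have hσv : σ.left.base (c.left.base v) = cz.left.base (sec.left.base v) :=
      (congrArg (fun m => m.left.base v) hcσ).symm
    refine ⟨σ, hσ1, hσ2, ?_, fun w hw => ?_⟩
    · rw [hrW1]
      exact ⟨sec.left.base v, hrW ▸ hsv, hσv.symm⟩
    · obtain ⟨z, hz1, hz2⟩ := Scheme.exists_preimage_of_isPullback (sqc.map (Over.forget S))
        (D1.j.left.base w) v hw
      have hzW : z ∈ W := by
        rw [← hpre]
        show cz.left.base z ∈ W1
        rw [show cz.left.base z = D1.j.left.base w from hz1]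
        exact w.2
      have := huniq ⟨z, hzW⟩ hz2
      exact (hz1.symm.trans (congrArg cz.left.base this)).trans hσv.symm
  · intro T a b hg hS
    have hlift : ∀ {T : Over S} (a : T ⟶ V1), ∃ (T' : Over S) (q : T' ⟶ T) (a' : T' ⟶ V),
        Flat q.left ∧ LocallyOfFinitePresentation q.left ∧ Surjective q.left ∧ a' ≫ c = q ≫ a := fun {T} a => by
      let T' : Over S := Over.mk (pullback.fst a.left c.left ≫ T.hom)
      exact ⟨T', Over.homMk (pullback.fst a.left c.left) rfl, Over.homMk (pullback.snd a.left c.left) (by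
          show pullback.snd a.left c.left ≫ V.hom = pullback.fst a.left c.left ≫ T.hom
          rw [← Over.w c, ← pullback.condition_assoc, Over.w a]),
        inferInstanceAs (Flat (pullback.fst a.left c.left)),
        inferInstanceAs (LocallyOfFinitePresentation (pullback.fst a.left c.left)),
        inferInstanceAs (Surjective (pullback.fst a.left c.left)),
        Over.OverMorphism.ext pullback.condition.symm⟩
    obtain ⟨T₁, q₁, a', _, _, _, ha⟩ := hlift a
    obtain ⟨T₂, q₂, b', _, _, _, hb⟩ := hlift (q₁ ≫ b)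
    haveI := epi_map_of_fppf q₁
    haveI := epi_map_of_fppf q₂
    have ha' : (q₂ ≫ a') ≫ c = (q₂ ≫ q₁) ≫ a := by rw [Category.assoc, ha, Category.assoc]
    have hb' : b' ≫ c = (q₂ ≫ q₁) ≫ b := by rw [hb, Category.assoc]
    have hg' : (q₂ ≫ a') ≫ g = b' ≫ g := by
      rw [← hcg, ← Category.assoc, ha', ← Category.assoc, hb', Category.assoc (q₂ ≫ q₁), hg, ← Category.assoc]
    have := (hker T₂ (q₂ ≫ a') b').mpr ⟨hg', hxi _ _ _ hg', fun T' d z => by
      rw [← hin, ← hin, Category.assoc d (q₂ ≫ a') c, ha', Category.assoc d b' c, hb', ← Category.assoc,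
        ← Category.assoc]
      exact hS.2 T' (d ≫ q₂ ≫ q₁) z⟩
    rw [ha', hb'] at this
    apply (yon S).map_injective
    rw [← cancel_epi ((yon S).map q₁), ← cancel_epi ((yon S).map q₂)]
    simp only [← Functor.map_comp]
    rw [← Category.assoc, this, Category.assoc]

end Groth.Agent.Boot
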