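import Mathlib

/-!
# A disjoint union of separated morphisms is separated
-/

set_option autoImplicit false
set_option backward.isDefEq.respectTransparency false

universe u

open CategoryTheory CategoryTheory.Limits AlgebraicGeometry

noncomputable section

namespace Groth.Agent.Boot

/-- A disjoint union of separated morphisms is separated. -/
theorem isSeparated_sigmaDesc {ι : Type u} {X : ι → Scheme.{u}} {Y : Scheme.{u}} (f : ∀ i, X i ⟶ Y)
    [∀ i, IsSeparated (f i)] : IsSeparated (Sigma.desc f) := by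
  let D := Sigma.desc f
  refine ⟨.of_isPreimmersion (pullback.diagonal D) ?_⟩
  rw [← isOpen_compl_iff, isOpen_iff_forall_mem_open]
  intro z hz
  obtain ⟨⟨i, a⟩, ha⟩ := (sigmaMk X).surjective ((pullback.fst D D).base z)
  obtain ⟨⟨j, b⟩, hb⟩ := (sigmaMk X).surjective ((pullback.snd D D).base z)
  rw [sigmaMk_mk] at ha hb
  by_cases hij : i = j
  · subst hij
    let m : pullback (f i) (f i) ⟶ pullback D D := pullback.map _ _ _ _ (Sigma.ι X i) (Sigma.ι X i) (𝟙 Y)
      (by simp [D]) (by simp [D])
    have hzm : z ∈ Set.range m.base := by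
      rw [Scheme.Pullback.range_map]
      exact ⟨⟨a, ha⟩, ⟨b, hb⟩⟩
    obtain ⟨w, rfl⟩ := hzm
    have hm : ∀ x, m.base ((pullback.diagonal (f i)).base x) =
        (pullback.diagonal D).base ((Sigma.ι X i).base x) := fun x => by
      have e : pullback.diagonal (f i) ≫ m = Sigma.ι X i ≫ pullback.diagonal D := by
        apply pullback.hom_ext <;> simp [m]
      exact congrArg (fun k => k.base x) e
    refine ⟨m.base '' (Set.range (pullback.diagonal (f i)).base)ᶜ, ?_,
      m.isOpenEmbedding.isOpenMap _ (pullback.diagonal (f i)).isClosedEmbedding.isClosed_range.isOpen_compl,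
      ⟨w, fun ⟨x, hx⟩ => hz ⟨(Sigma.ι X i).base x, by rw [← hm, hx]⟩, rfl⟩⟩
    rintro _ ⟨w', hw', rfl⟩ ⟨y, hy⟩
    have h1 : y = (Sigma.ι X i).base ((pullback.fst (f i) (f i)).base w') := by
      have e1 : (pullback.fst D D).base ((pullback.diagonal D).base y) = y := by
        rw [← Scheme.Hom.comp_apply, pullback.diagonal_fst]; rfl
      have e2 : m ≫ pullback.fst D D = pullback.fst (f i) (f i) ≫ Sigma.ι X i := by simp [m]
      rw [← e1, hy]
      exact congrArg (fun k => k.base w') e2
    exact hw' ⟨(pullback.fst (f i) (f i)).base w',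
      m.isOpenEmbedding.injective (by rw [hm, ← h1, hy])⟩
  · refine ⟨(pullback.fst D D).base ⁻¹' Set.range (Sigma.ι X i).base ∩
        (pullback.snd D D).base ⁻¹' Set.range (Sigma.ι X j).base, ?_,
      ((Sigma.ι X i).isOpenEmbedding.isOpen_range.preimage (pullback.fst D D).continuous).inter
        ((Sigma.ι X j).isOpenEmbedding.isOpen_range.preimage (pullback.snd D D).continuous),
      ⟨⟨a, ha⟩, ⟨b, hb⟩⟩⟩
    rintro _ ⟨⟨a', ha'⟩, ⟨b', hb'⟩⟩ ⟨y, rfl⟩
    rw [← Scheme.Hom.comp_apply, pullback.diagonal_fst] at ha'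
    rw [← Scheme.Hom.comp_apply, pullback.diagonal_snd] at hb'
    have e : sigmaMk X ⟨i, a'⟩ = sigmaMk X ⟨j, b'⟩ := by
      rw [sigmaMk_mk, sigmaMk_mk]; exact ha'.trans hb'.symm
    exact hij (congrArg Sigma.fst ((sigmaMk X).injective e))

end Groth.Agent.Boot
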