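import Mathlib
import Groth.Agent.BootLib.Chart
import Groth.Agent.BootLib.SepSigma
import Groth.Agent.BootLib.Refine
import Groth.Agent.AlgSpLib.Bootstrap
import Groth.Agent.AlgSpLib.Iso
import Groth.Agent.AlgSpLib.Coprod
import Groth.Agent.AlgSpLib.CoprodOpen
import Groth.Agent.S10139

/-!
# Quotients by flat equivalence relations are algebraic spaces
-/

set_option autoImplicit false
set_option backward.isDefEq.respectTransparency false
set_option maxHeartbeats 1600000

universe u

open CategoryTheory CategoryTheory.Limits MonoidalCategory CartesianMonoidalCategory AlgebraicGeometry Opposite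
open AlgSp AlgSpLib Groth.Agent.QuotRep

noncomputable section

namespace Groth.Agent.Boot

variable {S : Scheme.{u}} {R U : Over S} {F : Sp S} {π : (yon S).obj U ⟶ F}
variable {s t : R ⟶ U}

theorem isSeparated_of_isSeparated {X Y : Scheme.{u}} [X.IsSeparated] (f : X ⟶ Y) : IsSeparated f := by
  haveI : IsSeparated (f ≫ terminal.from Y) := by rw [terminal.comp_from]; infer_instance
  exact IsSeparated.of_comp f (terminal.from Y)

theorem exists_etale_chart [Sheaf.IsLocallySurjective π] (sq : IsPullback ((yon S).map t) ((yon S).map s) π π)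
    [Flat s.left] [LocallyOfFinitePresentation s.left] [LocallyQuasiFinite s.left]
    [Flat t.left] [LocallyOfFinitePresentation t.left] [IsSeparated U.hom] (u₀ : U.left) :
    ∃ (X : Over S) (eM : (yon S).obj X ⟶ F), RepWith @Etale eM ∧
      ∃ (K : Over S) (k2 : K ⟶ U) (k1 : K ⟶ X), IsPullback ((yon S).map k2) ((yon S).map k1) π eM ∧
        u₀ ∈ Set.range k2.left.base := by
  haveI := isSeparated_of_kernelPair sq
  obtain ⟨e, het, hes⟩ := ((isEqvRel_of_isPullback sq).equivalence U).refl (𝟙 U)
  obtain ⟨V, g, W, hW, v, hV, hg, hgv, hspl⟩ := exists_initial sq u₀ e het hes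
  haveI := hV; haveI := hg
  haveI : IsSeparated g.left := isSeparated_of_isSeparated g.left
  obtain ⟨V1, g1, W1, hW1, v1, hg1, hg1s, hv1, hspl1, hinj⟩ := exists_refinement sq g W hW v hspl
  haveI := hg1
  let D := famOf sq g1 W1 hW1
  obtain ⟨A⟩ := exists_stableRel D g1 rfl v1 hspl1 hinj
  haveI : Etale (fibR s g1).left := inferInstanceAs (Etale (pullback.fst s.left g1.left))
  haveI : Flat D.zt.left := inferInstanceAs (Flat ((fibR s g1).left ≫ t.left))
  haveI : LocallyOfFinitePresentation D.zt.left :=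
    inferInstanceAs (LocallyOfFinitePresentation ((fibR s g1).left ≫ t.left))
  obtain ⟨sec, hs1, hs2, -, -⟩ := hspl1
  obtain ⟨X, eM, heM, K, k2, k1, sqK, hk⟩ := exists_chart_of_stableRel sq D v1 A (sec.left.base v1)
    (congrArg (fun m => m.left.base v1) hs2)
  refine ⟨X, eM, heM, K, k2, k1, sqK, ?_⟩
  rwa [show D.zt.left.base (sec.left.base v1) = u₀ from
    (congrArg (fun m => m.left.base v1) hs1).trans (hv1.trans hgv)] at hk

theorem isAlgSpace_of_lqf_kernelPair [Sheaf.IsLocallySurjective π]
    (sq : IsPullback ((yon S).map t) ((yon S).map s) π π)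
    [Flat s.left] [LocallyOfFinitePresentation s.left] [LocallyQuasiFinite s.left]
    [Flat t.left] [LocallyOfFinitePresentation t.left] [IsSeparated U.hom] : IsAlgSpace F := by
  choose X e he K k2 k1 sqK hu using fun u₀ : U.left => exists_etale_chart sq u₀
  let C : Over S := Over.mk (Sigma.desc fun u₀ => (X u₀).hom)
  let ι' : ∀ u₀, X u₀ ⟶ C := fun u₀ =>
    Over.homMk (Sigma.ι (fun u₀ => (X u₀).left) u₀) (Sigma.ι_desc (fun u₀ => (X u₀).hom) u₀)
  have hcov : ∀ v : C.left, ∃ u₀, v ∈ Set.range (ι' u₀).left := fun v => by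
    obtain ⟨x, y, hy⟩ : ∃ x, ∃ y : (X x).left, (Sigma.ι (fun x => (X x).left) x).base y = v :=
      ⟨((sigmaMk fun x => (X x).left).symm v).1, ((sigmaMk fun x => (X x).left).symm v).2, by
        rw [← sigmaMk_mk]; exact (sigmaMk fun x => (X x).left).apply_symm_apply v⟩
    exact ⟨x, y, hy⟩
  obtain ⟨hc⟩ := nonempty_isColimit_yon_cofan (V := C) ι' (fun x => inferInstanceAs (IsOpenImmersion (Sigma.ι _ x)))
    hcov (fun i j hij => disjoint_opensRange_sigmaι _ i j hij |> fun h => by
      rw [disjoint_iff, eq_bot_iff] at h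
      rw [Set.disjoint_left]
      exact fun p hp hp' => h ⟨hp, hp'⟩)
  let E : (yon S).obj C ⟶ F := Cofan.IsColimit.desc hc e
  have hEι : ∀ x, (yon S).map (ι' x) ≫ E = e x := fun x => Cofan.IsColimit.fac hc _ _
  have hE : RepWith @Etale E := repWith_of_source_cover (fun x => (yon S).map (ι' x))
    (fun x => (repWith_yon_map_iff (P := @IsOpenImmersion) _).2 (inferInstanceAs (IsOpenImmersion (Sigma.ι _ x))))
    (fun p => exists_mem_range_inj _ hc p) fun x => by rw [hEι x]; exact he x
  have hS : RepWith @Surjective E := by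
    obtain ⟨KE, a₁, a₂, sqE⟩ := exists_isPullback_yon E π hE.rep
    refine repWith_of_cover sqE hE.rep ((repWith_yon_map_iff (P := @Surjective) _).2 ⟨fun u₀ => ?_⟩)
    obtain ⟨y, hy⟩ := hu u₀
    obtain ⟨w, hw⟩ := (yon S).map_surjective (sqE.lift ((yon S).map (k1 u₀ ≫ ι' u₀)) ((yon S).map (k2 u₀)) (by
      rw [Functor.map_comp, Category.assoc, hEι, (sqK u₀).w]))
    have hw2 : w ≫ a₂ = k2 u₀ := (yon S).map_injective (by rw [Functor.map_comp, hw, IsPullback.lift_snd])
    exact ⟨w.left.base y, (congrArg (fun m => m.left.base y) hw2).trans hy⟩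
  exact isAlgSpace_of_atlas E hE hS

/-- Sheaves with the same kernel pair are the same quotient. -/
theorem nonempty_iso_quot [Sheaf.IsLocallySurjective π] (sq : IsPullback ((yon S).map t) ((yon S).map s) π π) :
    Nonempty (QuotSh.quot Scheme.fppfPrecoverage s t ≅ F) := by
  have h := isEqvRel_of_isPullback sq
  obtain ⟨D, hD⟩ := exists_desc (qπ s t) π fun T b b' hb => by
    obtain ⟨b, rfl⟩ := (yon S).map_surjective b
    obtain ⟨b', rfl⟩ := (yon S).map_surjective b'
    obtain ⟨r, h1, h2⟩ := (map_π_eq_iff h b b').mp hb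
    rw [← h1, ← h2, Functor.map_comp, Functor.map_comp, Category.assoc, Category.assoc, sq.w]
  haveI : Sheaf.IsLocallySurjective (qπ s t ≫ D) := by rw [hD]; infer_instance
  haveI : Epi (qπ s t ≫ D) := (Sheaf.isLocallySurjective_iff_epi _).mp inferInstance
  haveI : Epi D := epi_of_epi (qπ s t) D
  haveI : Sheaf.IsLocallySurjective D := (Sheaf.isLocallySurjective_iff_epi _).mpr inferInstance
  haveI : Mono D := mono_of_injective fun T x y hxy => by
    obtain ⟨T₁, q₁, x', _, _, _, hx⟩ := exists_single_lift (qπ s t) x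
    obtain ⟨T₂, q₂, y', _, _, _, hy⟩ := exists_single_lift (qπ s t) ((yon S).map q₁ ≫ y)
    obtain ⟨x', rfl⟩ := (yon S).map_surjective x'
    obtain ⟨y', rfl⟩ := (yon S).map_surjective y'
    haveI := epi_map_of_fppf q₁
    haveI := epi_map_of_fppf q₂
    rw [← cancel_epi ((yon S).map q₁), ← cancel_epi ((yon S).map q₂), ← hx, ← hy, ← Category.assoc,
      ← Functor.map_comp]
    have e : (yon S).map (q₂ ≫ x') ≫ π = (yon S).map y' ≫ π := by
      rw [← hD, ← Category.assoc ((yon S).map y'), hy, Functor.map_comp, Category.assoc,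
        ← Category.assoc ((yon S).map x'), hx, Category.assoc, Category.assoc, Category.assoc, hxy]
    obtain ⟨r, hr⟩ := (yon S).map_surjective (sq.lift _ _ e)
    refine (map_π_eq_iff h (q₂ ≫ x') y').mpr ⟨r, (yon S).map_injective ?_, (yon S).map_injective ?_⟩
    · rw [Functor.map_comp, hr, IsPullback.lift_fst]
    · rw [Functor.map_comp, hr, IsPullback.lift_snd]
  haveI := isIso_of_mono_isLocallySurjective D
  exact ⟨asIso D⟩

/-- A sheaf covered by a scheme with flat locally finitely presented kernel pair is an algebraic space. -/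
theorem isAlgSpace_of_fppf_kernelPair [Sheaf.IsLocallySurjective π]
    (sq : IsPullback ((yon S).map t) ((yon S).map s) π π)
    [Flat s.left] [LocallyOfFinitePresentation s.left] [Flat t.left] [LocallyOfFinitePresentation t.left] :
    IsAlgSpace F := by
  obtain ⟨i⟩ := nonempty_iso_quot sq
  obtain ⟨R', U', s', t', g, r, ψ, h', -, -, hs1, hs2, hs3, ht1, ht2, ht3, -, hψ⟩ :=
    S10139.result S s t (isEqvRel_of_isPullback sq)
  haveI := hψ
  refine IsAlgSpace.of_iso ?_ (asIso ψ ≪≫ i)
  haveI := hs1; haveI := hs2; haveI := hs3; haveI := ht1; haveI := ht2; haveI := ht3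
  have sq' := isPullback_qπ s' t' h'
  let 𝒰 := U'.left.affineCover
  let Y : Over S := Over.mk (Sigma.desc fun j => 𝒰.f j ≫ U'.hom)
  let c : Y ⟶ U' := Over.homMk (Sigma.desc 𝒰.f) (Sigma.hom_ext _ _ fun j => by
    rw [Sigma.ι_desc_assoc]
    exact (Sigma.ι_desc (fun j => 𝒰.f j ≫ U'.hom) j).symm)
  haveI : Etale c.left := IsZariskiLocalAtSource.sigmaDesc (P := @Etale) fun j => inferInstance
  haveI : Surjective c.left := ⟨fun x => by
    obtain ⟨j, y, hy⟩ := 𝒰.exists_eq x
    refine ⟨(Sigma.ι (fun j => 𝒰.X j) j).base y, ?_⟩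
    rw [← hy]
    exact congrArg (fun m => m.base y) (Sigma.ι_desc 𝒰.f j)⟩
  haveI : IsSeparated Y.hom := by
    haveI : ∀ j, IsSeparated (𝒰.f j ≫ U'.hom) := fun j => isSeparated_of_isSeparated _
    exact isSeparated_sigmaDesc fun j => 𝒰.f j ≫ U'.hom
  haveI : LocallyQuasiFinite c.left := locallyQuasiFinite_of_etale c.left
  let t₁ : fibObj s' c ⟶ U' := fibR s' c ≫ t'
  have sq1 : IsPullback ((yon S).map t₁) ((yon S).map (fibP s' c)) (qπ s' t') ((yon S).map c ≫ qπ s' t') := by
    rw [show t₁ = fibR s' c ≫ t' from rfl, Functor.map_comp]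
    exact ((isPullback_fib s' c).map (yon S)).paste_horiz sq'
  let t₂ : fibObj t₁ c ⟶ Y := fibR t₁ c ≫ fibP s' c
  have sq2 : IsPullback ((yon S).map t₂) ((yon S).map (fibP t₁ c)) ((yon S).map c ≫ qπ s' t')
      ((yon S).map c ≫ qπ s' t') := by
    rw [show t₂ = fibR t₁ c ≫ fibP s' c from rfl, Functor.map_comp]
    exact ((isPullback_fib t₁ c).map (yon S)).paste_horiz sq1.flip
  haveI : Etale (fibR s' c).left := inferInstanceAs (Etale (pullback.fst s'.left c.left))
  haveI : LocallyQuasiFinite (fibR s' c).left := inferInstanceAs (LocallyQuasiFinite (pullback.fst s'.left c.left))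
  haveI : Etale (fibR t₁ c).left := inferInstanceAs (Etale (pullback.fst t₁.left c.left))
  haveI : LocallyQuasiFinite t₁.left := inferInstanceAs (LocallyQuasiFinite ((fibR s' c).left ≫ t'.left))
  haveI : Flat t₁.left := inferInstanceAs (Flat ((fibR s' c).left ≫ t'.left))
  haveI : LocallyOfFinitePresentation t₁.left :=
    inferInstanceAs (LocallyOfFinitePresentation ((fibR s' c).left ≫ t'.left))
  haveI : Flat (fibP t₁ c).left := inferInstanceAs (Flat (pullback.snd t₁.left c.left))
  haveI : LocallyOfFinitePresentation (fibP t₁ c).left :=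
    inferInstanceAs (LocallyOfFinitePresentation (pullback.snd t₁.left c.left))
  haveI : LocallyQuasiFinite (fibP t₁ c).left := inferInstanceAs (LocallyQuasiFinite (pullback.snd t₁.left c.left))
  haveI : Flat (fibP s' c).left := inferInstanceAs (Flat (pullback.snd s'.left c.left))
  haveI : LocallyOfFinitePresentation (fibP s' c).left :=
    inferInstanceAs (LocallyOfFinitePresentation (pullback.snd s'.left c.left))
  haveI : Flat t₂.left := inferInstanceAs (Flat ((fibR t₁ c).left ≫ (fibP s' c).left))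
  haveI : LocallyOfFinitePresentation t₂.left :=
    inferInstanceAs (LocallyOfFinitePresentation ((fibR t₁ c).left ≫ (fibP s' c).left))
  haveI := isLocallySurjective_yon_map c
  haveI : Sheaf.IsLocallySurjective ((yon S).map c ≫ qπ s' t') := by
    haveI : Epi ((yon S).map c) := (Sheaf.isLocallySurjective_iff_epi _).mp inferInstance
    haveI : Epi (qπ s' t') := (Sheaf.isLocallySurjective_iff_epi _).mp inferInstance
    exact (Sheaf.isLocallySurjective_iff_epi _).mpr inferInstance
  exact isAlgSpace_of_lqf_kernelPair sq2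

end Groth.Agent.Boot
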