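import Groth.Agent.AlgSpLib.SheafDesc
import Groth.Agent.AlgSpLib.FormalLocal
import Groth.Prelude.Def_AlgSpGpd
import Mathlib.CategoryTheory.Sites.LocallyInjective
/-!
# Effectivity of pre-equivalence relations of fppf sheaves
-/

set_option autoImplicit false
set_option backward.isDefEq.respectTransparency false
set_option backward.isDefEq.respectTransparency.types false
universe u
open CategoryTheory CategoryTheory.Limits AlgebraicGeometry Opposite AlgSp

open AlgSpLib

namespace Groth.Agent.Boot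

variable {S : Scheme.{u}} {R U : Sp S} (s t : R ⟶ U)

/-- The presheaf quotient by a relation. -/
noncomputable def quotPsh : (Over S)ᵒᵖ ⥤ Type (u + 1) where
  obj T := Quot fun x y : U.obj.obj T => ∃ r : R.obj.obj T, t.hom.app T r = x ∧ s.hom.app T r = y
  map {T T'} g := TypeCat.ofHom (Quot.map (U.obj.map g) fun x y ⟨r, h1, h2⟩ => ⟨R.obj.map g r,
    by rw [← h1]; exact ConcreteCategory.congr_hom (t.hom.naturality g) r,
    by rw [← h2]; exact ConcreteCategory.congr_hom (s.hom.naturality g) r⟩)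
  map_id T := by
    refine ConcreteCategory.hom_ext _ _ fun x => ?_
    induction x using Quot.ind with
    | _ x => exact congrArg (Quot.mk _) (by simp)
  map_comp f g := by
    refine ConcreteCategory.hom_ext _ _ fun x => ?_
    induction x using Quot.ind with
    | _ x => exact congrArg (Quot.mk _) (by simp)

noncomputable def quotPshπ : U.obj ⟶ quotPsh s t where
  app T := TypeCat.ofHom (Quot.mk _)

/-- Points with equal image in the quotient sheaf are locally related. -/
theorem exists_rel_of_quotSp_eq (h : IsPreEqvRelSp s t) {T : Over S} (a b : (yon S).obj T ⟶ U)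
    (e : a ≫ quotSpπ s t = b ≫ quotSpπ s t) :
    ∃ (V : T.left → Over S) (g : ∀ x, V x ⟶ T), (∀ x, Flat (g x).left) ∧
      (∀ x, LocallyOfFinitePresentation (g x).left) ∧ (∀ x, x ∈ Set.range (g x).left) ∧
      ∀ x, ∃ r : (yon S).obj (V x) ⟶ R, r ≫ t = (yon S).map (g x) ≫ a ∧ r ≫ s = (yon S).map (g x) ≫ b := by
  let Q : Sp S := (presheafToSheaf (AlgSp.J S) (Type (u + 1))).obj (quotPsh s t)
  let π : U ⟶ Q := ⟨quotPshπ s t ≫ toSheafify (AlgSp.J S) (quotPsh s t)⟩
  have w : s ≫ π = t ≫ π := by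
    ext T r
    exact congrArg ((toSheafify (AlgSp.J S) (quotPsh s t)).app T) (Quot.sound ⟨r, rfl, rfl⟩).symm
  have e' : a ≫ π = b ≫ π := by
    rw [← quotSpπ_desc s t π w, ← Category.assoc, e, Category.assoc]
  have e'' : (toSheafify (AlgSp.J S) (quotPsh s t)).app (op T) ((quotPshπ s t).app (op T) (yEq a)) =
      (toSheafify (AlgSp.J S) (quotPsh s t)).app (op T) ((quotPshπ s t).app (op T) (yEq b)) := by
    have := congrArg yEq e'
    rw [yEq_comp, yEq_comp] at this
    exact this
  obtain ⟨V, g, hR, h₁, h₂, h₃⟩ := exists_family_of_mem (U := T)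
    (Presheaf.equalizerSieve_mem (AlgSp.J S) (toSheafify (AlgSp.J S) (quotPsh s t)) _ _ e'')
  refine ⟨V, g, h₁, h₂, h₃, fun x => ?_⟩
  have hx := hR x
  change Quot.mk _ (U.obj.map (g x).op (yEq a)) = Quot.mk _ (U.obj.map (g x).op (yEq b)) at hx
  have heqv : _root_.Equivalence fun p q : U.obj.obj (op (V x)) =>
      ∃ r : R.obj.obj (op (V x)), t.hom.app (op (V x)) r = p ∧ s.hom.app (op (V x)) r = q := by
    refine ⟨fun p => ?_, fun {p q} ⟨r, h1, h2⟩ => ?_, fun {p q l} ⟨r, h1, h2⟩ ⟨r', h1', h2'⟩ => ?_⟩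
    · obtain ⟨r, h1, h2⟩ := (h (V x)).refl (yEq.symm p)
      exact ⟨yEq r, by rw [← yEq_comp, h1, Equiv.apply_symm_apply], by rw [← yEq_comp, h2, Equiv.apply_symm_apply]⟩
    · obtain ⟨r', h1', h2'⟩ := (h (V x)).symm (x := yEq.symm p) (y := yEq.symm q) ⟨yEq.symm r,
        yEq.injective (by rw [yEq_comp, Equiv.apply_symm_apply, Equiv.apply_symm_apply, h1]),
        yEq.injective (by rw [yEq_comp, Equiv.apply_symm_apply, Equiv.apply_symm_apply, h2])⟩
      exact ⟨yEq r', by rw [← yEq_comp, h1', Equiv.apply_symm_apply], by rw [← yEq_comp, h2', Equiv.apply_symm_apply]⟩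
    · obtain ⟨r'', h1'', h2''⟩ := (h (V x)).trans (x := yEq.symm p) (y := yEq.symm q) (z := yEq.symm l) ⟨yEq.symm r,
          yEq.injective (by rw [yEq_comp, Equiv.apply_symm_apply, Equiv.apply_symm_apply, h1]),
          yEq.injective (by rw [yEq_comp, Equiv.apply_symm_apply, Equiv.apply_symm_apply, h2])⟩ ⟨yEq.symm r',
          yEq.injective (by rw [yEq_comp, Equiv.apply_symm_apply, Equiv.apply_symm_apply, h1']),
          yEq.injective (by rw [yEq_comp, Equiv.apply_symm_apply, Equiv.apply_symm_apply, h2'])⟩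
      exact ⟨yEq r'', by rw [← yEq_comp, h1'', Equiv.apply_symm_apply], by rw [← yEq_comp, h2'', Equiv.apply_symm_apply]⟩
  obtain ⟨r, h1, h2⟩ := heqv.eqvGen_iff.1 (Quot.eqvGen_exact hx)
  exact ⟨yEq.symm r, yEq.injective (by rw [yEq_comp, yEq_map, Equiv.apply_symm_apply, h1]),
    yEq.injective (by rw [yEq_comp, yEq_map, Equiv.apply_symm_apply, h2])⟩

/-- Morphisms agreeing on an fppf family of a scheme agree. -/
theorem eq_of_family {F : Sp S} {T : Over S} {V : T.left → Over S} (g : ∀ x, V x ⟶ T) (h₁ : ∀ x, Flat (g x).left)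
    (h₂ : ∀ x, LocallyOfFinitePresentation (g x).left) (h₃ : ∀ x, x ∈ Set.range (g x).left)
    {a b : (yon S).obj T ⟶ F} (h : ∀ x, (yon S).map (g x) ≫ a = (yon S).map (g x) ≫ b) : a = b :=
  hom_ext_of_cover g h₁ h₂ (fun x => ⟨x, h₃ x⟩) h

instance epi_quotSpπ : Epi (quotSpπ s t) := inferInstanceAs (Epi (coequalizer.π s t))

end Groth.Agent.Boot
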