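import Mathlib
import Groth.Agent.BootLib.Main
import Groth.Agent.AlgSpLib.FppfCoverDiag
import Groth.Agent.BootLib.QuotEff

/-!
# Bootstrap
-/

set_option autoImplicit false
set_option backward.isDefEq.respectTransparency false

universe u

open CategoryTheory CategoryTheory.Limits AlgebraicGeometry Opposite
open AlgSp AlgSpLib

noncomputable section

namespace Groth.Agent.Boot

variable {S : Scheme.{u}}

/-- A sheaf with a representable fppf atlas by a scheme is an algebraic space. -/
theorem isAlgSpace_of_fppf_atlas {F : Sp S} {U : Over S} (q : (yon S).obj U ⟶ F) (h1 : RepWith @Flat q)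
    (h2 : RepWith @LocallyOfFinitePresentation q) (h3 : RepWith @Surjective q) : IsAlgSpace F := by
  haveI := isLocallySurjective_of_repWith h1 h2 h3
  obtain ⟨R, t, s, sq⟩ := exists_isPullback_yon q q h1.rep
  haveI : Flat s.left := (repWith_yon_map_iff (P := @Flat) s).1 (repWith_of_isPullback sq h1)
  haveI : LocallyOfFinitePresentation s.left :=
    (repWith_yon_map_iff (P := @LocallyOfFinitePresentation) s).1 (repWith_of_isPullback sq h2)
  haveI : Flat t.left := (repWith_yon_map_iff (P := @Flat) t).1 (repWith_of_isPullback sq.flip h1)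
  haveI : LocallyOfFinitePresentation t.left :=
    (repWith_yon_map_iff (P := @LocallyOfFinitePresentation) t).1 (repWith_of_isPullback sq.flip h2)
  exact isAlgSpace_of_fppf_kernelPair sq

/-- A sheaf with an fppf covering by a space, representable by spaces, is an algebraic space. -/
theorem isAlgSpace_of_repBySp_fppf_cover {X F : Sp S} (hX : IsAlgSpace X) (p : X ⟶ F)
    (hp : RepBySpWith FppfMor p.hom) : IsAlgSpace F := by
  obtain ⟨-, U, q, h1, h2, h3⟩ := exists_fppf_chart hX p hp
  exact isAlgSpace_of_fppf_atlas q h1 h2 h3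

/-- An equivalence relation of sheaves is effective. -/
theorem isPullback_quotSpπ {R U : Sp S} {s t : R ⟶ U} (h : IsEqvRelSp s t) :
    IsPullback t s (quotSpπ s t) (quotSpπ s t) := by
  refine isPullback_of_forall_existsUnique (quotSp_condition s t).symm fun T a b hab => ?_
  obtain ⟨V, c, hcf, hcp, hcs, hr⟩ := exists_rel_of_quotSp_eq s t h.equivalence a b hab
  choose r hrt hrs using hr
  obtain ⟨l, hl⟩ := exists_amalgamation c hcf hcp (fun x => ⟨x, hcs x⟩) r fun i j Z gi gj hg => by
    refine h.injective Z _ _ ?_ ?_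
    · rw [Category.assoc, Category.assoc, hrt, hrt, ← Functor.map_comp_assoc, hg, Functor.map_comp_assoc]
    · rw [Category.assoc, Category.assoc, hrs, hrs, ← Functor.map_comp_assoc, hg, Functor.map_comp_assoc]
  have h1 : l ≫ t = a := eq_of_family c hcf hcp hcs fun i => by rw [← Category.assoc, hl, hrt]
  have h2 : l ≫ s = b := eq_of_family c hcf hcp hcs fun i => by rw [← Category.assoc, hl, hrs]
  exact ⟨l, ⟨h1, h2⟩, fun l' hl' => h.injective T _ _ (hl'.1.trans h1.symm) (hl'.2.trans h2.symm)⟩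

/-- A sheaf quotient of an algebraic space with flat lfp algebraic space kernel pair is an algebraic space. -/
theorem isAlgSpace_of_space_kernelPair {R U F : Sp S} (hR : IsAlgSpace R) (hU : IsAlgSpace U) {q : U ⟶ F} [Epi q]
    {s t : R ⟶ U} (sq : IsPullback t s q q) (hs1 : LocP @Flat s) (hs2 : LocP @LocallyOfFinitePresentation s)
    (ht1 : LocP @Flat t) (ht2 : LocP @LocallyOfFinitePresentation t) : IsAlgSpace F := by
  obtain ⟨V, a, ha, has⟩ := hU.atlas
  haveI : Sheaf.IsLocallySurjective a := isLocallySurjective_of_repWith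
    (repWith_mono (fun _ _ g (_ : Etale g) => (inferInstance : Flat g)) ha)
    (repWith_mono (fun _ _ g (_ : Etale g) => (inferInstance : LocallyOfFinitePresentation g)) ha) has
  haveI : Epi a := (Sheaf.isLocallySurjective_iff_epi _).mp inferInstance
  haveI : Sheaf.IsLocallySurjective (a ≫ q) := (Sheaf.isLocallySurjective_iff_epi _).mpr inferInstance
  have hV := IsAlgSpace.yon_obj V
  let P₁ := pullback t a
  let r₁ : P₁ ⟶ R := pullback.fst t a
  let v₁ : P₁ ⟶ (yon S).obj V := pullback.snd t a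
  have sqP₁ := IsPullback.of_hasPullback t a
  have hP₁ : IsAlgSpace P₁ := isAlgSpace_pullback hR hV hU t a
  have sqA : IsPullback (r₁ ≫ s) v₁ q (a ≫ q) := sqP₁.paste_horiz sq.flip
  let P₂ := pullback (r₁ ≫ s) a
  let x : P₂ ⟶ P₁ := pullback.fst (r₁ ≫ s) a
  let v₂ : P₂ ⟶ (yon S).obj V := pullback.snd (r₁ ≫ s) a
  have sqP₂ := IsPullback.of_hasPullback (r₁ ≫ s) a
  have hP₂ : IsAlgSpace P₂ := isAlgSpace_pullback hP₁ hV hU (r₁ ≫ s) a
  have sqB : IsPullback (x ≫ v₁) v₂ (a ≫ q) (a ≫ q) := sqP₂.paste_horiz sqA.flip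
  have hr₁ : RepWith @Etale r₁ := repWith_of_isPullback sqP₁.flip ha
  have hx : RepWith @Etale x := repWith_of_isPullback sqP₂.flip ha
  have hv₂ : ∀ (P : MorphismProperty Scheme.{u}) [EtLocProp P], LocP P s → LocP P v₂ := fun P _ h =>
    locP_of_isPullback hP₁ hU hV sqP₂ fun A B c d k hc hd e =>
      h (c ≫ r₁) d k (MorphismProperty.comp_mem _ _ _ hc hr₁) hd ((Category.assoc _ _ _).trans e)
  have hv₁ : ∀ (P : MorphismProperty Scheme.{u}) [EtLocProp P], LocP P t → LocP P (x ≫ v₁) := fun P _ h =>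
    fun A B c d k hc hd e => locP_of_isPullback hR hU hV sqP₁ h (c ≫ x) d k
      (MorphismProperty.comp_mem _ _ _ hc hx) hd ((Category.assoc _ _ _).trans e)
  let j : P₂ ⟶ (yon S).obj (V ⨯ V) := prod.lift (x ≫ v₁) v₂ ≫ inv (prodComparison (yon S) V V)
  have hj₁ : j ≫ (yon S).map prod.fst = x ≫ v₁ := by
    simp only [j, Category.assoc, inv_prodComparison_map_fst, prod.lift_fst]
  have hj₂ : j ≫ (yon S).map prod.snd = v₂ := by
    simp only [j, Category.assoc, inv_prodComparison_map_snd, prod.lift_snd]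
  haveI : Mono j := ⟨fun {Z} y z h => sqB.hom_ext (by rw [← hj₁, reassoc_of% h]) (by rw [← hj₂, reassoc_of% h])⟩
  obtain ⟨K, ⟨e⟩⟩ := isRepSh_of_space_mono hP₂ j fun W b w hb hw => by
    haveI : LocallyOfFinitePresentation (w ≫ prod.fst).left := hv₁ _ ht2 b (𝟙 _) _ hb (repWith_id _ V)
      (by rw [Category.comp_id, Functor.map_comp, hw, Category.assoc, hj₁])
    haveI : LocallyOfFiniteType (w.left ≫ (prod.fst : V ⨯ V ⟶ V).left) := by
      rw [← Over.comp_left]; infer_instance
    exact locallyOfFiniteType_of_comp w.left (prod.fst : V ⨯ V ⟶ V).left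
  obtain ⟨t', ht⟩ := (yon S).map_surjective (e.hom ≫ x ≫ v₁)
  obtain ⟨s', hs⟩ := (yon S).map_surjective (e.hom ≫ v₂)
  have sqK : IsPullback ((yon S).map t') ((yon S).map s') (a ≫ q) (a ≫ q) :=
    sqB.of_iso e.symm (Iso.refl _) (Iso.refl _) (Iso.refl _) (by simp [ht]) (by simp [hs]) (by simp) (by simp)
  have hee : RepWith @Etale e.hom := MorphismProperty.of_isIso _ _
  haveI : Flat s'.left := hv₂ _ hs1 e.hom (𝟙 _) s' hee (repWith_id _ V) (by rw [Category.comp_id, hs])
  haveI : LocallyOfFinitePresentation s'.left :=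
    hv₂ _ hs2 e.hom (𝟙 _) s' hee (repWith_id _ V) (by rw [Category.comp_id, hs])
  haveI : Flat t'.left := hv₁ _ ht1 e.hom (𝟙 _) t' hee (repWith_id _ V) (by rw [Category.comp_id, ht])
  haveI : LocallyOfFinitePresentation t'.left :=
    hv₁ _ ht2 e.hom (𝟙 _) t' hee (repWith_id _ V) (by rw [Category.comp_id, ht])
  exact isAlgSpace_of_fppf_kernelPair sqK

end Groth.Agent.Boot
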