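import Mathlib
import Groth.Agent.BootLib.Corollaries
import Groth.Agent.AlgSpLib.Coprod
import Groth.Agent.AlgSpLib.CoprodOpen

/-!
# Being an algebraic space is fppf local
-/

set_option autoImplicit false
set_option backward.isDefEq.respectTransparency false
set_option maxHeartbeats 1600000

universe u

open CategoryTheory CategoryTheory.Limits AlgebraicGeometry Opposite
open AlgSp AlgSpLib

noncomputable section

namespace Groth.Agent.Boot

variable {S : Scheme.{u}}

/-- A sheaf jointly covered by schemes whose mutual fibre products are spaces, flat lfp over the schemes. -/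
theorem isAlgSpace_of_scheme_family {ι : Type u} {F : Sp S} (V : ι → Over S) (v : ∀ i, (yon S).obj (V i) ⟶ F)
    (hK : ∀ i j, IsAlgSpace (pullback (v i) (v j)) ∧ LocP @Flat (pullback.snd (v i) (v j)) ∧
      LocP @LocallyOfFinitePresentation (pullback.snd (v i) (v j)))
    (hcov : ∀ (T : Over S) (x : (yon S).obj T ⟶ F), ∃ (κ : Type u) (T' : κ → Over S) (c : ∀ k, T' k ⟶ T),
      (∀ k, Flat (c k).left) ∧ (∀ k, LocallyOfFinitePresentation (c k).left) ∧
      (∀ z : T.left, ∃ k, z ∈ Set.range (c k).left) ∧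
      ∀ k, ∃ (i : ι) (l : (yon S).obj (T' k) ⟶ (yon S).obj (V i)), l ≫ v i = (yon S).map (c k) ≫ x) :
    IsAlgSpace F := by
  let W : Over S := Over.mk (Sigma.desc fun i => (V i).hom)
  let e : ∀ i, V i ⟶ W := fun i =>
    Over.homMk (Sigma.ι (fun i => (V i).left) i) (Sigma.ι_desc (fun i => (V i).hom) i)
  have hecov : ∀ w : W.left, ∃ i, w ∈ Set.range (e i).left := fun w => by
    obtain ⟨x, y, hy⟩ : ∃ x, ∃ y : (V x).left, (Sigma.ι (fun x => (V x).left) x).base y = w :=
      ⟨((sigmaMk fun x => (V x).left).symm w).1, ((sigmaMk fun x => (V x).left).symm w).2, by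
        rw [← sigmaMk_mk]; exact (sigmaMk fun x => (V x).left).apply_symm_apply w⟩
    exact ⟨x, y, hy⟩
  obtain ⟨hc⟩ := nonempty_isColimit_yon_cofan (V := W) e (fun i => inferInstanceAs (IsOpenImmersion (Sigma.ι _ i)))
    hecov (fun i j hij => disjoint_opensRange_sigmaι _ i j hij |> fun h => by
      rw [disjoint_iff, eq_bot_iff] at h
      rw [Set.disjoint_left]
      exact fun p hp hp' => h ⟨hp, hp'⟩)
  let w : (yon S).obj W ⟶ F := Cofan.IsColimit.desc hc v
  have hew : ∀ i, (yon S).map (e i) ≫ w = v i := fun i => Cofan.IsColimit.fac hc _ _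
  haveI : Sheaf.IsLocallySurjective w := by
    refine ⟨fun {T} s => ?_⟩
    obtain ⟨κ, T', c, hcf, hcp, hcs, hl⟩ := hcov T (yEq.symm s)
    refine GrothendieckTopology.superset_covering _ ?_ (ofArrows_mem_J c hcf hcp hcs)
    rintro Z f ⟨_, k, _, ⟨m⟩, rfl⟩
    obtain ⟨i, l, hli⟩ := hl m
    refine ⟨yEq ((yon S).map k ≫ l ≫ (yon S).map (e i)), ?_⟩
    refine (yEq_comp _ w).symm.trans ?_
    rw [Category.assoc, Category.assoc, hew, hli, ← Functor.map_comp_assoc, yEq_map, Equiv.apply_symm_apply]
  -- the pieces of the kernel pair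
  have hR : ∀ i j, ∃ (R : Over S) (t : R ⟶ V i) (s : R ⟶ V j),
      IsPullback ((yon S).map t) ((yon S).map s) (v i) (v j) ∧ Flat s.left ∧
        LocallyOfFinitePresentation s.left := by
    intro i j
    obtain ⟨hKs, hKf, hKp⟩ := hK i j
    let m : pullback (v i) (v j) ⟶ (yon S).obj (V i ⨯ V j) :=
      prod.lift (pullback.fst _ _) (pullback.snd _ _) ≫ inv (prodComparison (yon S) (V i) (V j))
    have hm₁ : m ≫ (yon S).map prod.fst = pullback.fst _ _ := by
      simp only [m, Category.assoc, inv_prodComparison_map_fst, prod.lift_fst]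
    have hm₂ : m ≫ (yon S).map prod.snd = pullback.snd _ _ := by
      simp only [m, Category.assoc, inv_prodComparison_map_snd, prod.lift_snd]
    haveI : Mono m := ⟨fun {Z} x y h => pullback.hom_ext (by rw [← hm₁, reassoc_of% h]) (by rw [← hm₂, reassoc_of% h])⟩
    obtain ⟨R, ⟨φ⟩⟩ := isRepSh_of_space_mono hKs m fun Y b y hb hy => by
      haveI : LocallyOfFinitePresentation (y ≫ prod.snd).left := hKp b (𝟙 _) _ hb (repWith_id _ _)
        (by rw [Category.comp_id, Functor.map_comp, hy, Category.assoc, hm₂])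
      haveI : LocallyOfFiniteType (y.left ≫ (prod.snd : V i ⨯ V j ⟶ V j).left) := by
        rw [← Over.comp_left]; infer_instance
      exact locallyOfFiniteType_of_comp y.left (prod.snd : V i ⨯ V j ⟶ V j).left
    obtain ⟨t, ht⟩ := (yon S).map_surjective (φ.hom ≫ pullback.fst (v i) (v j))
    obtain ⟨s, hs⟩ := (yon S).map_surjective (φ.hom ≫ pullback.snd (v i) (v j))
    have hee : RepWith @Etale φ.hom := MorphismProperty.of_isIso _ _
    exact ⟨R, t, s, (IsPullback.of_hasPullback (v i) (v j)).of_iso φ.symm (Iso.refl _) (Iso.refl _) (Iso.refl _)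
      (by simp [ht]) (by simp [hs]) (by simp) (by simp),
      hKf φ.hom (𝟙 _) s hee (repWith_id _ _) (by rw [Category.comp_id, hs]),
      hKp φ.hom (𝟙 _) s hee (repWith_id _ _) (by rw [Category.comp_id, hs])⟩
  choose R t s sqR hsf hsp using hR
  let K := pullback w w
  have sqK := IsPullback.of_hasPullback w w
  let f : ∀ r : ι × ι, (yon S).obj (R r.1 r.2) ⟶ K := fun r =>
    pullback.lift ((yon S).map (t r.1 r.2 ≫ e r.1)) ((yon S).map (s r.1 r.2 ≫ e r.2)) (by
      rw [Functor.map_comp, Functor.map_comp, Category.assoc, Category.assoc, hew, hew, (sqR _ _).w])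
  have hopen : ∀ r, RepWith @IsOpenImmersion (f r) := by
    rintro ⟨i, j⟩
    refine MorphismProperty.relative.of_exists fun T ξ => ?_
    obtain ⟨a, ha⟩ := (yon S).map_surjective (ξ ≫ pullback.fst w w)
    obtain ⟨b, hb⟩ := (yon S).map_surjective (ξ ≫ pullback.snd w w)
    haveI : IsOpenImmersion (e i).left := inferInstanceAs (IsOpenImmersion (Sigma.ι _ i))
    haveI : IsOpenImmersion (e j).left := inferInstanceAs (IsOpenImmersion (Sigma.ι _ j))
    haveI : Mono (e i) := Over.mono_of_mono_left _
    haveI : Mono (e j) := Over.mono_of_mono_left _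
    let O : T.left.Opens := (a.left ⁻¹ᵁ (e i).left.opensRange) ⊓ (b.left ⁻¹ᵁ (e j).left.opensRange)
    let To : Over S := Over.mk (O.ι ≫ T.hom)
    let o : To ⟶ T := Over.homMk O.ι rfl
    have hlift : ∀ (i : ι) [IsOpenImmersion (e i).left] (a : T ⟶ W),
        (∀ z : O.toScheme, a.left (O.ι z) ∈ Set.range (e i).left) → ∃ a' : To ⟶ V i, a' ≫ e i = o ≫ a := by
      intro i _ a h
      have hr : Set.range (O.ι ≫ a.left) ⊆ Set.range (e i).left := by
        rintro _ ⟨z, rfl⟩; rw [Scheme.Hom.comp_apply]; exact h z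
      exact ⟨Over.homMk (IsOpenImmersion.lift (e i).left (O.ι ≫ a.left) hr) (by
        rw [← Over.w (e i), IsOpenImmersion.lift_fac_assoc, Category.assoc, Over.w a]; rfl),
        Over.OverMorphism.ext (IsOpenImmersion.lift_fac _ _ _)⟩
    obtain ⟨a', ha'⟩ := hlift i a fun z => (z : O.toScheme).2.1
    obtain ⟨b', hb'⟩ := hlift j b fun z => (z : O.toScheme).2.2
    have hab : (yon S).map a' ≫ v i = (yon S).map b' ≫ v j := by
      rw [← hew i, ← hew j, ← Functor.map_comp_assoc, ← Functor.map_comp_assoc, ha', hb', Functor.map_comp_assoc,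
        Functor.map_comp_assoc, ha, hb, Category.assoc, Category.assoc, pullback.condition]
    let l := (sqR i j).lift _ _ hab
    have w0 : l ≫ f (i, j) = (yon S).map o ≫ ξ := by
      apply pullback.hom_ext
      · rw [Category.assoc, pullback.lift_fst, Functor.map_comp, ← Category.assoc, IsPullback.lift_fst,
          ← Functor.map_comp, ha', Functor.map_comp, ha, Category.assoc]
      · rw [Category.assoc, pullback.lift_snd, Functor.map_comp, ← Category.assoc, IsPullback.lift_snd,
          ← Functor.map_comp, hb', Functor.map_comp, hb, Category.assoc]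
    haveI : IsOpenImmersion o.left := inferInstanceAs (IsOpenImmersion O.ι)
    haveI : Mono o := Over.mono_of_mono_left o
    refine ⟨To, l, o, isPullback_of_forall_existsUnique w0 fun Z x y hxy => ?_, inferInstanceAs (IsOpenImmersion O.ι)⟩
    obtain ⟨y, rfl⟩ := (yon S).map_surjective y
    obtain ⟨x₁, hx₁⟩ := (yon S).map_surjective (x ≫ (yon S).map (t i j))
    obtain ⟨x₂, hx₂⟩ := (yon S).map_surjective (x ≫ (yon S).map (s i j))
    have e1 : x₁ ≫ e i = y ≫ a := (yon S).map_injective (by
      have := congrArg (· ≫ pullback.fst w w) hxy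
      rw [Functor.map_comp, Functor.map_comp, hx₁, ha]
      simpa [f, Category.assoc] using this)
    have e2 : x₂ ≫ e j = y ≫ b := (yon S).map_injective (by
      have := congrArg (· ≫ pullback.snd w w) hxy
      rw [Functor.map_comp, Functor.map_comp, hx₂, hb]
      simpa [f, Category.assoc] using this)
    have hr : Set.range y.left ⊆ Set.range O.ι := by
      rintro _ ⟨z, rfl⟩
      rw [Scheme.Opens.range_ι]
      exact ⟨⟨x₁.left z, congrArg (fun m => m.left.base z) e1⟩, ⟨x₂.left z, congrArg (fun m => m.left.base z) e2⟩⟩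
    let y' : Z ⟶ To := Over.homMk (IsOpenImmersion.lift O.ι y.left hr) (by
      show _ ≫ O.ι ≫ T.hom = Z.hom
      rw [IsOpenImmersion.lift_fac_assoc, Over.w y])
    have hy : y' ≫ o = y := Over.OverMorphism.ext (IsOpenImmersion.lift_fac _ _ _)
    have f1 : y' ≫ a' = x₁ := (cancel_mono (e i)).mp (by rw [Category.assoc, ha', reassoc_of% hy, e1])
    have f2 : y' ≫ b' = x₂ := (cancel_mono (e j)).mp (by rw [Category.assoc, hb', reassoc_of% hy, e2])
    refine ⟨(yon S).map y', ⟨(sqR i j).hom_ext ?_ ?_, by rw [← Functor.map_comp, hy]⟩, fun z ⟨_, hz⟩ => ?_⟩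
    · rw [Category.assoc, IsPullback.lift_fst, ← Functor.map_comp, f1, hx₁]
    · rw [Category.assoc, IsPullback.lift_snd, ← Functor.map_comp, f2, hx₂]
    · rw [← cancel_mono ((yon S).map o), hz, ← Functor.map_comp, hy]
  have hjoint : ∀ (T : Over S) (ξ : (yon S).obj T ⟶ K) (z : T.left),
      ∃ r, z ∈ Set.range ((hopen r).rep.snd ξ).left := by
    intro T ξ z
    obtain ⟨a, ha⟩ := (yon S).map_surjective (ξ ≫ pullback.fst w w)
    obtain ⟨b, hb⟩ := (yon S).map_surjective (ξ ≫ pullback.snd w w)
    obtain ⟨i, hi⟩ := hecov (a.left z)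
    obtain ⟨j, hj⟩ := hecov (b.left z)
    refine ⟨(i, j), ?_⟩
    haveI : IsOpenImmersion (e i).left := inferInstanceAs (IsOpenImmersion (Sigma.ι _ i))
    haveI : IsOpenImmersion (e j).left := inferInstanceAs (IsOpenImmersion (Sigma.ι _ j))
    let O : T.left.Opens := (a.left ⁻¹ᵁ (e i).left.opensRange) ⊓ (b.left ⁻¹ᵁ (e j).left.opensRange)
    let To : Over S := Over.mk (O.ι ≫ T.hom)
    let o : To ⟶ T := Over.homMk O.ι rfl
    have hr1 : Set.range (O.ι ≫ a.left) ⊆ Set.range (e i).left := by
      rintro _ ⟨y, rfl⟩; rw [Scheme.Hom.comp_apply]; exact (y : O.toScheme).2.1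
    have hr2 : Set.range (O.ι ≫ b.left) ⊆ Set.range (e j).left := by
      rintro _ ⟨y, rfl⟩; rw [Scheme.Hom.comp_apply]; exact (y : O.toScheme).2.2
    let a' : To ⟶ V i := Over.homMk (IsOpenImmersion.lift (e i).left (O.ι ≫ a.left) hr1) (by
      rw [← Over.w (e i), IsOpenImmersion.lift_fac_assoc, Category.assoc, Over.w a]; rfl)
    let b' : To ⟶ V j := Over.homMk (IsOpenImmersion.lift (e j).left (O.ι ≫ b.left) hr2) (by
      rw [← Over.w (e j), IsOpenImmersion.lift_fac_assoc, Category.assoc, Over.w b]; rfl)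
    have ha' : a' ≫ e i = o ≫ a := Over.OverMorphism.ext (IsOpenImmersion.lift_fac _ _ _)
    have hb' : b' ≫ e j = o ≫ b := Over.OverMorphism.ext (IsOpenImmersion.lift_fac _ _ _)
    have hab : (yon S).map a' ≫ v i = (yon S).map b' ≫ v j := by
      rw [← hew i, ← hew j, ← Functor.map_comp_assoc, ← Functor.map_comp_assoc, ha', hb', Functor.map_comp_assoc,
        Functor.map_comp_assoc, ha, hb, Category.assoc, Category.assoc, pullback.condition]
    let k := (hopen (i, j)).rep.lift ((sqR i j).lift _ _ hab) o (by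
      apply pullback.hom_ext
      · rw [Category.assoc, pullback.lift_fst, Functor.map_comp, ← Category.assoc, IsPullback.lift_fst,
          ← Functor.map_comp, ha', Functor.map_comp, ha, Category.assoc]
      · rw [Category.assoc, pullback.lift_snd, Functor.map_comp, ← Category.assoc, IsPullback.lift_snd,
          ← Functor.map_comp, hb', Functor.map_comp, hb, Category.assoc])
    let z₀ : To.left := (⟨z, hi, hj⟩ : O.toScheme)
    have hk : k ≫ (hopen (i, j)).rep.snd ξ = o := (hopen (i, j)).rep.lift_snd _ _ _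
    exact ⟨k.left z₀, congrArg (fun m => m.left.base z₀) hk⟩
  obtain ⟨RK, ⟨φ⟩⟩ := isRepSh_of_openCover f hopen hjoint
  obtain ⟨tK, htK⟩ := (yon S).map_surjective (φ.hom ≫ pullback.fst w w)
  obtain ⟨sK, hsK⟩ := (yon S).map_surjective (φ.hom ≫ pullback.snd w w)
  have sqRK : IsPullback ((yon S).map tK) ((yon S).map sK) w w :=
    sqK.of_iso φ.symm (Iso.refl _) (Iso.refl _) (Iso.refl _) (by simp [htK]) (by simp [hsK]) (by simp) (by simp)
  choose k hk using fun r => (yon S).map_surjective (f r ≫ φ.inv)
  haveI hko : ∀ r, IsOpenImmersion (k r).left := fun r =>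
    (repWith_yon_map_iff (P := (@IsOpenImmersion : MorphismProperty Scheme.{u})) (k r)).1 (by
      rw [hk]; exact MorphismProperty.RespectsIso.postcomp _ _ _ (hopen r))
  have hks : ∀ r, k r ≫ sK = s r.1 r.2 ≫ e r.2 := fun r => (yon S).map_injective (by
    rw [Functor.map_comp, hk, hsK, Category.assoc, Iso.inv_hom_id_assoc, pullback.lift_snd])
  have htop : ⨆ r, (k r).left.opensRange = ⊤ := eq_top_iff.2 fun z _ => by
    obtain ⟨r, y, hy⟩ := hjoint RK φ.hom z
    obtain ⟨q, hq⟩ := (yon S).map_surjective ((hopen r).rep.fst φ.hom)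
    have hqk : q ≫ k r = (hopen r).rep.snd φ.hom := (yon S).map_injective (by
      rw [Functor.map_comp, hk, hq, ← Category.assoc, ((hopen r).rep.isPullback φ.hom).w, Category.assoc,
        φ.hom_inv_id, Category.comp_id])
    exact TopologicalSpace.Opens.mem_iSup.2 ⟨r, q.left y, by
      rw [← Scheme.Hom.comp_apply, ← Over.comp_left, hqk, hy]⟩
  have hprop : ∀ (P : MorphismProperty Scheme.{u}) [IsZariskiLocalAtSource P] [P.RespectsIso],
      (∀ r : ι × ι, P ((s r.1 r.2).left ≫ (e r.2).left)) → P sK.left := by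
    intro P _ _ h
    refine IsZariskiLocalAtSource.of_iSup_eq_top _ htop fun r => ?_
    rw [← P.cancel_left_of_respectsIso (k r).left.isoOpensRange.hom, ← Category.assoc,
      Scheme.Hom.isoOpensRange_hom_ι, ← Over.comp_left, hks, Over.comp_left]
    exact h r
  haveI : ∀ i, IsOpenImmersion (e i).left := fun i => inferInstanceAs (IsOpenImmersion (Sigma.ι _ i))
  haveI : Flat sK.left := hprop @Flat fun r => by haveI := hsf r.1 r.2; infer_instance
  haveI : LocallyOfFinitePresentation sK.left :=
    hprop @LocallyOfFinitePresentation fun r => by haveI := hsp r.1 r.2; infer_instance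
  obtain ⟨σ, hσ, hσs⟩ := QuotRep.exists_inverse_iso (QuotRep.isEqvRel_of_isPullback sqRK)
  haveI := hσ
  haveI : Flat tK.left := by rw [← hσs]; infer_instance
  haveI : LocallyOfFinitePresentation tK.left := by rw [← hσs]; infer_instance
  exact isAlgSpace_of_fppf_kernelPair sqRK

/-- Being an algebraic space descends along fppf coverings of algebraic spaces. -/
theorem isAlgSpace_of_fppf_cover {ι : Type u} {X : Sp S} (hX : IsAlgSpace X) {Xi : ι → Sp S}
    (hXi : ∀ i, IsAlgSpace (Xi i)) (g : ∀ i, Xi i ⟶ X) (hgf : ∀ i, LocP @Flat (g i))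
    (hgp : ∀ i, LocP @LocallyOfFinitePresentation (g i))
    (hgs : ∀ x : Points X, ∃ i, x ∈ Set.range (Points.map (g i))) {F : Sp S} (p : F ⟶ X)
    (h : ∀ i, IsAlgSpace (pullback p (g i))) : IsAlgSpace F := by
  choose V a ha has using fun i => (h i).atlas
  let v : ∀ i, (yon S).obj (V i) ⟶ F := fun i => a i ≫ pullback.fst p (g i)
  refine isAlgSpace_of_scheme_family V v (fun i j => ?_) fun T x => ?_
  · have hVj := IsAlgSpace.yon_obj (V j)
    let Q := pullback (g i) (v j ≫ p)
    have hQ : IsAlgSpace Q := isAlgSpace_pullback (hXi i) hVj hX _ _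
    let l : Q ⟶ pullback p (g i) := pullback.lift (pullback.snd (g i) (v j ≫ p) ≫ v j) (pullback.fst _ _)
      (by rw [Category.assoc, ← pullback.condition])
    have sqQ : IsPullback l (pullback.snd (g i) (v j ≫ p)) (pullback.fst p (g i)) (v j) := by
      have sqP : IsPullback (pullback.snd p (g i)) (pullback.fst p (g i)) (g i) p :=
        (IsPullback.of_hasPullback p (g i)).flip
      refine IsPullback.of_right ?_ (pullback.lift_fst _ _ _) sqP
      rw [pullback.lift_snd]
      exact IsPullback.of_hasPullback _ _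
    let m : pullback (v i) (v j) ⟶ Q := pullback.lift (pullback.fst _ _ ≫ a i ≫ pullback.snd p (g i))
      (pullback.snd (v i) (v j)) (by
        rw [Category.assoc, Category.assoc, ← pullback.condition, ← Category.assoc (a i)]
        exact (pullback.condition_assoc (f := v i) (g := v j) p))
    have hml : m ≫ l = pullback.fst (v i) (v j) ≫ a i := by
      apply pullback.hom_ext
      · rw [Category.assoc, pullback.lift_fst, ← Category.assoc, pullback.lift_snd, Category.assoc]
        exact pullback.condition.symm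
      · rw [Category.assoc, pullback.lift_snd, pullback.lift_fst, Category.assoc]
    have sqm : IsPullback (pullback.fst (v i) (v j)) m (a i) l :=
      (IsPullback.of_right (by rw [pullback.lift_snd]; exact (IsPullback.of_hasPullback (v i) (v j)).flip)
        hml sqQ.flip).flip
    have hm : RepWith @Etale m := repWith_of_isPullback sqm (ha i)
    have hv : ∀ (P : MorphismProperty Scheme.{u}) [EtLocProp P], LocP P (g i) →
        LocP P (pullback.snd (v i) (v j)) := fun P _ hP A B c d k hc hd e =>
      locP_of_isPullback (hXi i) hX hVj (IsPullback.of_hasPullback (g i) (v j ≫ p)) hP (c ≫ m) d k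
        (MorphismProperty.comp_mem _ _ _ hc hm) hd (by rw [Category.assoc, pullback.lift_snd, e])
    exact ⟨isAlgSpace_of_representable hQ m hm.rep, hv _ (hgf i), hv _ (hgp i)⟩
  · let Ti := fun i => pullback (g i) (x ≫ p)
    have hTi : ∀ i, IsAlgSpace (Ti i) := fun i => isAlgSpace_pullback (hXi i) (IsAlgSpace.yon_obj T) hX _ _
    choose Wi b hb hbs using fun i => (hTi i).atlas
    choose wi hwi using fun i => (yon S).map_surjective (b i ≫ pullback.snd (g i) (x ≫ p))
    have hl : ∀ i, ∃ (T' : Over S) (q : T' ⟶ Wi i) (l : (yon S).obj T' ⟶ (yon S).obj (V i)),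
        Flat q.left ∧ LocallyOfFinitePresentation q.left ∧ Surjective q.left ∧
          l ≫ v i = (yon S).map (q ≫ wi i) ≫ x := fun i => by
      haveI : Sheaf.IsLocallySurjective (a i) := isLocallySurjective_of_repWith
        (repWith_mono (fun _ _ g (_ : Etale g) => (inferInstance : Flat g)) (ha i))
        (repWith_mono (fun _ _ g (_ : Etale g) => (inferInstance : LocallyOfFinitePresentation g)) (ha i)) (has i)
      let y : (yon S).obj (Wi i) ⟶ pullback p (g i) := pullback.lift ((yon S).map (wi i) ≫ x)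
        (b i ≫ pullback.fst _ _) (by rw [hwi, Category.assoc, Category.assoc, Category.assoc, pullback.condition])
      obtain ⟨T', q, l, h1, h2, h3, hl⟩ := exists_single_lift (a i) y
      refine ⟨T', q, l, h1, h2, h3, ?_⟩
      rw [← Category.assoc, hl, Category.assoc, pullback.lift_fst, Functor.map_comp, Category.assoc]
    choose T' q l hq1 hq2 hq3 hl using hl
    have hw : ∀ (P : MorphismProperty Scheme.{u}) [EtLocProp P] (i : ι), LocP P (g i) → P (wi i).left :=
      fun P _ i hP => locP_of_isPullback (hXi i) hX (IsAlgSpace.yon_obj T)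
        (IsPullback.of_hasPullback (g i) (x ≫ p)) hP (b i) (𝟙 _) (wi i) (hb i) (repWith_id _ T)
        (by rw [Category.comp_id, hwi])
    refine ⟨ι, T', fun i => q i ≫ wi i, fun i => ?_, fun i => ?_, fun z => ?_, fun i => ⟨i, l i, hl i⟩⟩
    · haveI := hw @Flat i (hgf i); haveI := hq1 i
      rw [Over.comp_left]; infer_instance
    · haveI := hw @LocallyOfFinitePresentation i (hgp i); haveI := hq2 i
      rw [Over.comp_left]; infer_instance
    · obtain ⟨i, y, hy⟩ := hgs (Points.map (x ≫ p) (Points.schemeHomeo T z))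
      obtain ⟨r, -, hr⟩ := exists_point_isPullback (IsPullback.of_hasPullback (g i) (x ≫ p)) y
        (Points.schemeHomeo T z) hy
      obtain ⟨r', rfl⟩ := surjective_ofPt (hbs i) r
      obtain ⟨r'', rfl⟩ := (hq3 i).surj r'
      refine ⟨i, r'', (Points.schemeHomeo T).injective ?_⟩
      rw [Over.comp_left, Scheme.Hom.comp_apply, ← ofPt_yon_map, hwi, ← Points.map_ofPt]
      exact hr

end Groth.Agent.Boot
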