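import Mathlib
import Groth.Agent.BootLib.Corollaries
import Groth.Agent.AlgSpLib.FpqcMore

/-!
# The quotient map is an fppf covering
-/

set_option autoImplicit false
set_option backward.isDefEq.respectTransparency false

universe u

open CategoryTheory CategoryTheory.Limits AlgebraicGeometry Opposite
open AlgSp AlgSpLib

noncomputable section

namespace Groth.Agent.Boot

variable {S : Scheme.{u}}

/-- An epimorphism with flat lfp kernel pair is surjective, flat and lfp. -/
theorem fppfMor_of_kernelPair {R U F : Sp S} (hR : IsAlgSpace R) (hU : IsAlgSpace U) (hF : IsAlgSpace F)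
    {q : U ⟶ F} [Epi q] {s t : R ⟶ U} (sq : IsPullback t s q q) (ht1 : LocP @Flat t)
    (ht2 : LocP @LocallyOfFinitePresentation t) : FppfMor q := by
  haveI : Sheaf.IsLocallySurjective q := (Sheaf.isLocallySurjective_iff_epi _).mpr inferInstance
  obtain ⟨V, b, hb, hbs⟩ := hF.atlas
  obtain ⟨V', β, l, hβ1, hβ2, hβ3, hl⟩ := exists_single_lift q b
  haveI := hβ1; haveI := hβ2; haveI := hβ3
  have hg1 : RepWith @Flat ((yon S).map β ≫ b) :=
    MorphismProperty.comp_mem _ _ _ ((repWith_yon_map_iff (P := @Flat) β).2 hβ1)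
      (repWith_mono (fun _ _ g (_ : Etale g) => (inferInstance : Flat g)) hb)
  have hg2 : RepWith @LocallyOfFinitePresentation ((yon S).map β ≫ b) :=
    MorphismProperty.comp_mem _ _ _ ((repWith_yon_map_iff (P := @LocallyOfFinitePresentation) β).2 hβ2)
      (repWith_mono (fun _ _ g (_ : Etale g) => (inferInstance : LocallyOfFinitePresentation g)) hb)
  have hg3 : RepWith @Surjective ((yon S).map β ≫ b) :=
    MorphismProperty.comp_mem _ _ _ ((repWith_yon_map_iff (P := @Surjective) β).2 hβ3) hbs
  have hcov : IsFpqcCover (fun _ : PUnit.{u + 1} => (yon S).obj V') (fun _ => (yon S).map β ≫ b) := by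
    refine ⟨fun _ => locP_of_repWith hg1, fun Z hZ h => ?_⟩
    haveI : Flat (hg1.rep.snd h).left := hg1.property_snd h
    haveI : LocallyOfFinitePresentation (hg1.rep.snd h).left := hg2.property h _ _ (hg1.rep.isPullback h)
    haveI : Surjective (hg1.rep.snd h).left := hg3.property h _ _ (hg1.rep.isPullback h)
    haveI : IsAffine Z.left := hZ
    obtain ⟨E, e, k, hE, he1, he2, he3, hke⟩ := exists_affine_fppf_refinement (hg1.rep.snd h)
    refine ⟨1, fun _ => E, fun _ => e, fun _ => hE, fun _ => he1, fun z => ⟨0, he3.surj z⟩,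
      fun _ => ⟨⟨⟩, (yon S).map k ≫ hg1.rep.fst h, ?_⟩⟩
    rw [Category.assoc, hg1.rep.w, ← hke, Functor.map_comp, Category.assoc]
  have hV' := IsAlgSpace.yon_obj V'
  have sqP := IsPullback.of_hasPullback t l
  have sqq : IsPullback (pullback.fst t l ≫ s) (pullback.snd t l) q ((yon S).map β ≫ b) := by
    rw [← hl]; exact sqP.paste_horiz sq.flip
  have hX := isAlgSpace_pullback hR hV' hU t l
  have key : ∀ (P : MorphismProperty Scheme.{u}) [EtLocProp P] [P.IsStableUnderBaseChange]
      [IsZariskiLocalAtTarget P] [P.DescendsAlong (@Surjective ⊓ @Flat ⊓ @QuasiCompact)],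
      LocP P t → LocP P q := fun P _ _ _ _ h =>
    (isLocalOnBase_fpqc_locP_of_descendsAlong S P (fun _ : PUnit.{u + 1} => (yon S).obj V')
      (fun _ => (yon S).map β ≫ b) hF (fun _ => hV') hcov q hU (fun _ => pullback t l)
      (fun _ => pullback.snd t l) (fun _ => pullback.fst t l ≫ s) (fun _ => hX) fun _ => sqq).2
      fun _ => locP_of_isPullback hR hU hV' sqP h
  refine ⟨⟨fun x => ?_, key @Flat ht1⟩, key @LocallyOfFinitePresentation ht2⟩
  obtain ⟨y, hy⟩ := map_surjective_of_repWith hg3 x
  exact ⟨Points.map l y, by rw [← Points.map_comp, hl, hy]⟩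

end Groth.Agent.Boot
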