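import Mathlib
import Groth.Agent.BootLib.QuotProps
import Groth.Prelude.Def_AlgSp4

/-!
# Quotients of free actions
-/

set_option autoImplicit false
set_option backward.isDefEq.respectTransparency false

universe u

open CategoryTheory CategoryTheory.Limits MonoidalCategory CartesianMonoidalCategory AlgebraicGeometry Opposite
open AlgSp AlgSpLib MonObj

noncomputable section

namespace Groth.Agent.Boot

variable {S : Scheme.{u}} {B : Sp S} {G X : Over B} [GrpObj G] (a : GAction G X)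

theorem gact_one {T : Over B} (x : T ⟶ X) : lift (1 : T ⟶ G) x ≫ a.act = x := by
  have e : lift (1 : T ⟶ G) x = lift (toUnit T) x ≫ (η[G] ▷ X) := by
    refine CartesianMonoidalCategory.hom_ext _ _ ?_ (by simp)
    simp [Hom.one_def]
  rw [e, Category.assoc, a.one_act, leftUnitor_hom, lift_snd]

theorem gact_mul {T : Over B} (g g' : T ⟶ G) (x : T ⟶ X) :
    lift (g * g') x ≫ a.act = lift g (lift g' x ≫ a.act) ≫ a.act := by
  have e : lift (g * g') x = lift (lift g g') x ≫ (μ[G] ▷ X) := by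
    refine CartesianMonoidalCategory.hom_ext _ _ ?_ (by simp)
    simp [Hom.mul_def]
  rw [e, Category.assoc, a.mul_act, lift_lift_associator_hom_assoc, lift_whiskerLeft_assoc]

theorem gact_eq_iff (ha : a.IsFree) {T : Over S} {β : (yon S).obj T ⟶ B} (g g' : Over.mk β ⟶ G)
    (x : Over.mk β ⟶ X) (h : lift g x ≫ a.act = lift g' x ≫ a.act) : g = g' := by
  have h1 : lift (g'⁻¹ * g) x ≫ a.act = x := by
    rw [gact_mul, h, ← gact_mul, inv_mul_cancel, gact_one]
  have h2 := ha β _ x h1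
  rw [← Hom.one_def] at h2
  exact (inv_mul_eq_one.mp h2).symm

theorem isEqvRelSp_of_isFree (ha : a.IsFree) : IsEqvRelSp (snd G X).left a.act.left := by
  refine ⟨fun T r r' h1 h2 => ?_, fun T => ⟨fun x => ?_, fun {x y} h => ?_, fun {x y z} h h' => ?_⟩⟩
  · let β : (yon S).obj T ⟶ B := r ≫ (G ⊗ X).hom
    have e : r' ≫ (G ⊗ X).hom = β := by
      show _ = r ≫ (G ⊗ X).hom
      rw [← Over.w (snd G X), ← Category.assoc, ← h2, Category.assoc, Over.w]
    let ro : Over.mk β ⟶ G ⊗ X := Over.homMk r rfl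
    let ro' : Over.mk β ⟶ G ⊗ X := Over.homMk r' e
    have hx : ro ≫ snd G X = ro' ≫ snd G X := Over.OverMorphism.ext h2
    have hg : lift (ro ≫ fst G X) (ro ≫ snd G X) ≫ a.act =
        lift (ro' ≫ fst G X) (ro ≫ snd G X) ≫ a.act := by
      conv_rhs => rw [hx]
      rw [lift_comp_fst_snd, lift_comp_fst_snd]
      exact Over.OverMorphism.ext h1
    have hg' := gact_eq_iff a ha _ _ _ hg
    exact congrArg Over.Hom.left (CartesianMonoidalCategory.hom_ext ro ro' hg' hx)
  · let xo : Over.mk (x ≫ X.hom) ⟶ X := Over.homMk x rfl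
    exact ⟨(lift (1 : Over.mk (x ≫ X.hom) ⟶ G) xo).left, congrArg Over.Hom.left (gact_one a xo),
      congrArg Over.Hom.left (lift_snd (1 : Over.mk (x ≫ X.hom) ⟶ G) xo)⟩
  · obtain ⟨r, h1, h2⟩ := h
    let β : (yon S).obj T ⟶ B := r ≫ (G ⊗ X).hom
    let ro : Over.mk β ⟶ G ⊗ X := Over.homMk r rfl
    let gi : Over.mk β ⟶ G := (ro ≫ fst G X)⁻¹
    refine ⟨(lift gi (ro ≫ a.act)).left, ?_, ?_⟩
    · refine (congrArg Over.Hom.left (?_ : lift gi (ro ≫ a.act) ≫ a.act = ro ≫ snd G X)).trans h2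
      conv_lhs => rw [← lift_comp_fst_snd ro, lift_comp_fst_snd ro]
      have : ro ≫ a.act = lift (ro ≫ fst G X) (ro ≫ snd G X) ≫ a.act := by rw [lift_comp_fst_snd]
      rw [this, ← gact_mul, inv_mul_cancel, gact_one]
    · exact (congrArg Over.Hom.left (lift_snd gi (ro ≫ a.act))).trans h1
  · obtain ⟨r, h1, h2⟩ := h
    obtain ⟨r', h1', h2'⟩ := h'
    let β : (yon S).obj T ⟶ B := r ≫ (G ⊗ X).hom
    let ro : Over.mk β ⟶ G ⊗ X := Over.homMk r rfl
    let ro' : Over.mk β ⟶ G ⊗ X := Over.homMk r' (by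
      show r' ≫ (G ⊗ X).hom = r ≫ (G ⊗ X).hom
      conv_lhs => rw [← Over.w a.act, ← Category.assoc, h1']
      rw [← Over.w (snd G X), ← Category.assoc, h2])
    refine ⟨(lift ((ro ≫ fst G X) * (ro' ≫ fst G X)) (ro' ≫ snd G X)).left, ?_, ?_⟩
    · refine (congrArg Over.Hom.left (?_ : lift ((ro ≫ fst G X) * (ro' ≫ fst G X)) (ro' ≫ snd G X) ≫ a.act =
        ro ≫ a.act)).trans h1
      have e : lift (ro' ≫ fst G X) (ro' ≫ snd G X) ≫ a.act = ro ≫ snd G X := by
        rw [lift_comp_fst_snd]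
        exact Over.OverMorphism.ext (h1'.trans h2.symm)
      rw [gact_mul, e, lift_comp_fst_snd]
    · exact (congrArg Over.Hom.left (lift_snd ((ro ≫ fst G X) * (ro' ≫ fst G X)) (ro' ≫ snd G X))).trans h2'

theorem locP_act {P : MorphismProperty Scheme.{u}} (h : LocP P (snd G X).left) : LocP P a.act.left := by
  let σ : G ⊗ X ⟶ G ⊗ X := lift (fst G X)⁻¹ a.act
  have hσ : σ ≫ snd G X = a.act := lift_snd _ _
  have hσσ : σ ≫ σ = 𝟙 (G ⊗ X) := by
    refine CartesianMonoidalCategory.hom_ext _ _ ?_ ?_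
    · rw [Category.assoc, lift_fst, Category.id_comp, GrpObj.comp_inv, lift_fst, inv_inv]
    · rw [Category.assoc, hσ, Category.id_comp]
      show lift (fst G X)⁻¹ a.act ≫ a.act = snd G X
      conv_lhs => enter [1, 2]; rw [← Category.id_comp a.act, ← lift_fst_snd]
      rw [← gact_mul, inv_mul_cancel, gact_one]
  haveI : IsIso σ.left := ⟨σ.left, congrArg Over.Hom.left hσσ, congrArg Over.Hom.left hσσ⟩
  intro U V c d k hc hd e
  refine h (c ≫ σ.left) d k (MorphismProperty.RespectsIso.postcomp _ _ _ hc) hd ?_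
  rw [Category.assoc, ← Over.comp_left, hσ, e]

/-- The quotient by a free action is an algebraic space and the quotient map is a torsor. -/
theorem quot_free_action (hB : IsAlgSpace B) (hG : IsAlgSpace G.left) (hX : IsAlgSpace X.left) (ha : a.IsFree)
    (hf : LocP @Flat G.hom) (hp : LocP @LocallyOfFinitePresentation G.hom) :
    IsAlgSpace a.quot ∧ FppfMor a.quotπ ∧ IsPullback a.act.left (snd G X).left a.quotπ a.quotπ := by
  have sqGX : IsPullback (fst G X).left (snd G X).left G.hom X.hom := IsPullback.of_hasPullback G.hom X.hom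
  have hGX : IsAlgSpace (G ⊗ X).left := isAlgSpace_of_isPullback hG hX hB sqGX
  have hs1 : LocP @Flat (snd G X).left := locP_of_isPullback hG hB hX sqGX hf
  have hs2 : LocP @LocallyOfFinitePresentation (snd G X).left := locP_of_isPullback hG hB hX sqGX hp
  have sq := isPullback_quotSpπ (isEqvRelSp_of_isFree a ha)
  haveI : Epi a.quotπ := inferInstanceAs (Epi (coequalizer.π _ _))
  have hQ : IsAlgSpace a.quot :=
    isAlgSpace_of_space_kernelPair hGX hX sq hs1 hs2 (locP_act a hs1) (locP_act a hs2)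
  exact ⟨hQ, fppfMor_of_kernelPair hGX hX hQ sq (locP_act a hs1) (locP_act a hs2), sq⟩

end Groth.Agent.Boot
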